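import Mathlib
import Cfsg.Agent.Lib.Helper43.PSUGraphCent
import Cfsg.Agent.Lib.Helper43.FrobInvol

set_option autoImplicit false

/-!
# Involutory graph automorphisms of `PSU_n(q)`: basic relations

`xg g = psuDiag g * psuField (a ↦ a ^ q)`; every involutory graph automorphism has this shape.
-/

namespace Cfsg.Agent.Lib.Helper45.PSUGraph

open scoped MatrixGroups Matrix
open Matrix Cfsg.Agent.Lib.Helper43 Cfsg.Agent.Lib.Helper45.PSLField

variable {n : ℕ} {F : Type*} [Field F] [Fintype F] {q : ℕ}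

/-- a unitary group element from a matrix -/
noncomputable def guMk (hF : Fintype.card F = q ^ 2) (M : Matrix (Fin n) (Fin n) F)
    (hM : mstar (qAut hF) M * M = 1) : ↥(Cfsg.GU n F q) :=
  ⟨⟨M, mstar (qAut hF) M, mul_eq_one_comm.mp hM, hM⟩, (mem_GU_iff_mstar hF _).mpr hM⟩

theorem guMk_coe (hF : Fintype.card F = q ^ 2) (M : Matrix (Fin n) (Fin n) F)
    (hM : mstar (qAut hF) M * M = 1) :
    (((guMk hF M hM : ↥(Cfsg.GU n F q)) : GL (Fin n) F) : Matrix (Fin n) (Fin n) F) = M := rfl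

omit [Fintype F] in
theorem gu_ext {a b : ↥(Cfsg.GU n F q)}
    (h : ((a : GL (Fin n) F) : Matrix (Fin n) (Fin n) F) = ((b : GL (Fin n) F) : Matrix (Fin n) (Fin n) F)) :
    a = b := Subtype.ext (Units.ext h)

omit [Fintype F] in
theorem gu_coe_mul (a b : ↥(Cfsg.GU n F q)) :
    (((a * b : ↥(Cfsg.GU n F q)) : GL (Fin n) F) : Matrix (Fin n) (Fin n) F) =
      ((a : GL (Fin n) F) : Matrix (Fin n) (Fin n) F) * ((b : GL (Fin n) F) : Matrix (Fin n) (Fin n) F) := rfl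

/-- the matrix of `g⁻¹` for unitary `g` is `(g^τ)ᵀ` -/
theorem gu_inv_coe (hF : Fintype.card F = q ^ 2) (g : ↥(Cfsg.GU n F q)) :
    ((((g : GL (Fin n) F)⁻¹ : GL (Fin n) F)) : Matrix (Fin n) (Fin n) F) =
      mstar (qAut hF) ((g : GL (Fin n) F) : Matrix (Fin n) (Fin n) F) := by
  have h1 := gu_mstar hF g
  have h2 : ((((g : GL (Fin n) F)⁻¹ : GL (Fin n) F)) : Matrix (Fin n) (Fin n) F) *
      ((g : GL (Fin n) F) : Matrix (Fin n) (Fin n) F) = 1 := by
    rw [← Units.val_mul, inv_mul_cancel, Units.val_one]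
  have h3 : ((g : GL (Fin n) F) : Matrix (Fin n) (Fin n) F) *
      ((((g : GL (Fin n) F)⁻¹ : GL (Fin n) F)) : Matrix (Fin n) (Fin n) F) = 1 := by
    rw [← Units.val_mul, mul_inv_cancel, Units.val_one]
  calc ((((g : GL (Fin n) F)⁻¹ : GL (Fin n) F)) : Matrix (Fin n) (Fin n) F)
      = (mstar (qAut hF) ((g : GL (Fin n) F) : Matrix (Fin n) (Fin n) F) *
          ((g : GL (Fin n) F) : Matrix (Fin n) (Fin n) F)) *
          ((((g : GL (Fin n) F)⁻¹ : GL (Fin n) F)) : Matrix (Fin n) (Fin n) F) := by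
        rw [h1, Matrix.one_mul]
    _ = _ := by rw [Matrix.mul_assoc, h3, Matrix.mul_one]

theorem map_qAut_map_qAut (hF : Fintype.card F = q ^ 2) (M : Matrix (Fin n) (Fin n) F) :
    (M.map (qAut hF)).map (qAut hF) = M := by
  ext i j
  simp only [Matrix.map_apply]
  exact qAut_qAut hF _

/-- `g^τ = (g⁻¹)ᵀ` for unitary `g` -/
theorem gu_map_coe (hF : Fintype.card F = q ^ 2) (g : ↥(Cfsg.GU n F q)) :
    ((g : GL (Fin n) F) : Matrix (Fin n) (Fin n) F).map (qAut hF) =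
      ((((g : GL (Fin n) F)⁻¹ : GL (Fin n) F)) : Matrix (Fin n) (Fin n) F)ᵀ := by
  rw [gu_inv_coe hF g]
  show _ = ((((g : GL (Fin n) F) : Matrix (Fin n) (Fin n) F).map (qAut hF))ᵀ)ᵀ
  rw [Matrix.transpose_transpose]

/-- the unitary element with matrix `hᵀ` -/
noncomputable def guT (hF : Fintype.card F = q ^ 2) (h : ↥(Cfsg.GU n F q)) : ↥(Cfsg.GU n F q) :=
  (guMap (qAut hF) h)⁻¹

theorem guT_coe (hF : Fintype.card F = q ^ 2) (h : ↥(Cfsg.GU n F q)) :
    (((guT hF h : ↥(Cfsg.GU n F q)) : GL (Fin n) F) : Matrix (Fin n) (Fin n) F) =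
      ((h : GL (Fin n) F) : Matrix (Fin n) (Fin n) F)ᵀ := by
  show ((((guMap (qAut hF) h : ↥(Cfsg.GU n F q)) : GL (Fin n) F)⁻¹ : GL (Fin n) F) :
      Matrix (Fin n) (Fin n) F) = _
  rw [guMap_inv_coe, gu_inv_coe hF h]
  show ((((h : GL (Fin n) F) : Matrix (Fin n) (Fin n) F).map (qAut hF))ᵀ).map (qAut hF) = _
  rw [Matrix.transpose_map, map_qAut_map_qAut]

/-- the graph-type automorphism attached to a unitary matrix -/
noncomputable def xg (hF : Fintype.card F = q ^ 2) (g : ↥(Cfsg.GU n F q)) :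
    MulAut (Cfsg.PSU n F q) :=
  psuDiag g * psuField (qAut hF)

theorem qAut_mul_self (hF : Fintype.card F = q ^ 2) : qAut hF * qAut hF = 1 := by
  apply RingEquiv.ext
  intro a
  exact qAut_qAut hF a

theorem qAut_ne_one (hF : Fintype.card F = q ^ 2) : qAut hF ≠ 1 := by
  intro h
  have := orderOf_qAut hF
  rw [h, orderOf_one] at this
  omega

theorem xg_conj (hF : Fintype.card F = q ^ 2) (h g : ↥(Cfsg.GU n F q)) :
    (psuDiag h : MulAut (Cfsg.PSU n F q)) * xg hF g * (psuDiag h)⁻¹ =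
      xg hF (h * g * guT hF h) := by
  unfold xg guT
  have h1 := conj_psuField (n := n) (F := F) (q := q) h (qAut hF)
  calc (psuDiag h : MulAut (Cfsg.PSU n F q)) * (psuDiag g * psuField (qAut hF)) * (psuDiag h)⁻¹
      = (psuDiag h * psuDiag g * (psuDiag h)⁻¹) *
          (psuDiag h * psuField (qAut hF) * (psuDiag h)⁻¹) := by group
    _ = _ := by
        rw [h1, ← map_inv, ← map_mul, ← map_mul, ← mul_assoc, ← map_mul]
        congr 2
        group

theorem xg_eq_iff (hF : Fintype.card F = q ^ 2) (hn : 3 ≤ n) (a b : ↥(Cfsg.GU n F q)) :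
    xg hF a = xg hF b ↔
      ∃ c : F, ((a : GL (Fin n) F) : Matrix (Fin n) (Fin n) F) =
        c • ((b : GL (Fin n) F) : Matrix (Fin n) (Fin n) F) := by
  rw [← psuDiag_eq_iff hF hn]
  unfold xg
  exact mul_left_inj _

theorem xg_mul_self (hF : Fintype.card F = q ^ 2) (g : ↥(Cfsg.GU n F q)) :
    xg hF g * xg hF g = psuDiag (g * guMap (qAut hF) g) := by
  unfold xg
  calc (psuDiag g : MulAut (Cfsg.PSU n F q)) * psuField (qAut hF) *
        (psuDiag g * psuField (qAut hF))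
      = psuDiag g * (psuField (qAut hF) * psuDiag g) * psuField (qAut hF) := by group
    _ = psuDiag g * (psuDiag (guMap (qAut hF) g) * psuField (qAut hF)) * psuField (qAut hF) := by
        rw [psuField_mul_psuDiag]
    _ = psuDiag (g * guMap (qAut hF) g) * (psuField (qAut hF) * psuField (qAut hF)) := by
        rw [map_mul]; group
    _ = _ := by rw [← map_mul, qAut_mul_self, map_one, mul_one]

theorem xg_ne_one (hF : Fintype.card F = q ^ 2) (hn : 3 ≤ n) (g : ↥(Cfsg.GU n F q)) :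
    xg hF g ≠ 1 := by
  intro h
  exact qAut_ne_one hF (eq_one_of_psuDiag_mul_psuField_eq_one hF hn g _ h).1

/-- `xg g` has order two iff `g = c gᵀ` for a scalar `c`. -/
theorem orderOf_xg_eq_two_iff (hF : Fintype.card F = q ^ 2) (hn : 3 ≤ n) (g : ↥(Cfsg.GU n F q)) :
    orderOf (xg hF g) = 2 ↔
      ∃ c : F, ((g : GL (Fin n) F) : Matrix (Fin n) (Fin n) F) =
        c • ((g : GL (Fin n) F) : Matrix (Fin n) (Fin n) F)ᵀ := by
  have key : xg hF g * xg hF g = 1 ↔ ∃ c : F, ((g : GL (Fin n) F) : Matrix (Fin n) (Fin n) F) =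
        c • ((g : GL (Fin n) F) : Matrix (Fin n) (Fin n) F)ᵀ := by
    rw [xg_mul_self, psuDiag_eq_one_iff hF hn, gu_coe_mul, guMap_coe, gu_map_coe]
    have h3 : ((((g : GL (Fin n) F)⁻¹ : GL (Fin n) F)) : Matrix (Fin n) (Fin n) F)ᵀ *
        ((g : GL (Fin n) F) : Matrix (Fin n) (Fin n) F)ᵀ = 1 := by
      rw [← Matrix.transpose_mul, ← Units.val_mul, mul_inv_cancel, Units.val_one,
        Matrix.transpose_one]
    constructor
    · rintro ⟨c, hc⟩
      refine ⟨c, ?_⟩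
      have := congrArg (fun M => M * ((g : GL (Fin n) F) : Matrix (Fin n) (Fin n) F)ᵀ) hc
      simp only [Matrix.mul_assoc, h3, Matrix.mul_one, Matrix.smul_mul, Matrix.one_mul] at this
      exact this
    · rintro ⟨c, hc⟩
      refine ⟨c, ?_⟩
      conv_lhs => rw [hc]
      rw [Matrix.smul_mul, mul_eq_one_comm.mp h3]
  constructor
  · intro h
    apply key.mp
    have := pow_orderOf_eq_one (xg hF g)
    rw [h, pow_two] at this
    exact this
  · intro h
    exact orderOf_eq_prime (by rw [pow_two]; exact key.mpr h) (xg_ne_one hF hn g)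

theorem mem_centralizer_xg_iff (hF : Fintype.card F = q ^ 2) (hn : 3 ≤ n)
    (u g : ↥(Cfsg.GU n F q)) :
    (psuDiag u : MulAut (Cfsg.PSU n F q)) ∈ Subgroup.centralizer {xg hF g} ↔
      ∃ c : F, ((u : GL (Fin n) F) : Matrix (Fin n) (Fin n) F) *
        ((g : GL (Fin n) F) : Matrix (Fin n) (Fin n) F) *
          ((u : GL (Fin n) F) : Matrix (Fin n) (Fin n) F)ᵀ =
        c • ((g : GL (Fin n) F) : Matrix (Fin n) (Fin n) F) := by
  rw [Subgroup.mem_centralizer_singleton_iff]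
  have h1 : (psuDiag u : MulAut (Cfsg.PSU n F q)) * xg hF g = xg hF g * psuDiag u ↔
      (psuDiag u : MulAut (Cfsg.PSU n F q)) * xg hF g * (psuDiag u)⁻¹ = xg hF g := by
    rw [mul_inv_eq_iff_eq_mul]
  rw [h1, xg_conj, xg_eq_iff hF hn, gu_coe_mul, gu_coe_mul, guT_coe]

theorem isConjUnder_xg_iff (hF : Fintype.card F = q ^ 2) (hn : 3 ≤ n)
    (g g' : ↥(Cfsg.GU n F q)) :
    Cfsg.IsConjUnder (Cfsg.inndiagPSU n F q) (xg hF g) (xg hF g') ↔
      ∃ (h : ↥(Cfsg.GU n F q)) (c : F), ((g' : GL (Fin n) F) : Matrix (Fin n) (Fin n) F) =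
        c • (((h : GL (Fin n) F) : Matrix (Fin n) (Fin n) F) *
          ((g : GL (Fin n) F) : Matrix (Fin n) (Fin n) F) *
            ((h : GL (Fin n) F) : Matrix (Fin n) (Fin n) F)ᵀ) := by
  constructor
  · rintro ⟨k, hk, hkk⟩
    rw [inndiagPSU_eq_range] at hk
    obtain ⟨h, rfl⟩ := hk
    rw [xg_conj, xg_eq_iff hF hn, gu_coe_mul, gu_coe_mul, guT_coe] at hkk
    obtain ⟨c, hc⟩ := hkk
    exact ⟨h, c, hc⟩
  · rintro ⟨h, c, hc⟩
    refine ⟨psuDiag h, psuDiag_mem_inndiagPSU h, ?_⟩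
    rw [xg_conj, xg_eq_iff hF hn, gu_coe_mul, gu_coe_mul, guT_coe]
    exact ⟨c, hc⟩

/-- Every involutory graph automorphism has the form `xg g`. -/
theorem exists_xg_of_graph_invol (hF : Fintype.card F = q ^ 2)
    (β : MulAut (Cfsg.PSU n F q)) (hβ : Cfsg.IsGraphAutClassPSU β) (hβ2 : orderOf β = 2) :
    3 ≤ n ∧ ∃ g : ↥(Cfsg.GU n F q), β = xg hF g := by
  classical
  obtain ⟨hn, δ, φ, σ, hev, hδ, hφ, rfl⟩ := hβ
  refine ⟨hn, ?_⟩
  obtain ⟨g, rfl⟩ := (isInnerDiagonalAutPSU_iff δ).mp hδ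
  rw [isFieldAutPSUOf_iff] at hφ
  subst hφ
  refine ⟨g, ?_⟩
  -- σ² = 1
  obtain ⟨g2, -, h2⟩ := pow_psuDiag_psuField (n := n) (F := F) (q := q) g σ 2
  have h3 := pow_orderOf_eq_one ((psuDiag g : MulAut (Cfsg.PSU n F q)) * psuField σ)
  rw [hβ2, h2] at h3
  have h4 : σ ^ 2 = 1 := (eq_one_of_psuDiag_mul_psuField_eq_one hF hn g2 _ h3).1
  have hσ1 : σ ≠ 1 := by
    rintro rfl
    rw [orderOf_one] at hev
    exact absurd hev (by decide)
  have hσ2 : σ * σ = 1 := by rw [← pow_two]; exact h4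
  -- the automorphism group is cyclic
  have hστ : σ = qAut hF := by
    obtain ⟨p, hp⟩ := CharP.exists F
    have hpp : p.Prime := CharP.char_is_prime F p
    have : Fact p.Prime := ⟨hpp⟩
    obtain ⟨k, -, hk⟩ := FiniteField.card F p
    obtain ⟨e₁⟩ := ringAut_mulEquiv_zmod' (F := F) p (k : ℕ) hk
    have : NeZero (k : ℕ) := ⟨k.ne_zero⟩
    have hcyc : IsCyclic (RingAut F) := (MulEquiv.isCyclic e₁).mpr inferInstance
    have hfin : Finite (RingAut F) := Finite.of_equiv _ e₁.symm.toEquiv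
    exact eq_of_involutions_of_isCyclic hσ1 hσ2 (qAut_ne_one hF) (qAut_mul_self hF)
  rw [hστ]
  rfl

theorem isGraphAutClassPSU_xg (hF : Fintype.card F = q ^ 2) (hn : 3 ≤ n)
    (g : ↥(Cfsg.GU n F q)) : Cfsg.IsGraphAutClassPSU (xg hF g) := by
  refine ⟨hn, psuDiag g, psuField (qAut hF), qAut hF, ?_, ?_, ?_, rfl⟩
  · rw [orderOf_qAut hF]; exact even_two
  · exact (isInnerDiagonalAutPSU_iff _).mpr ⟨g, rfl⟩
  · exact (isFieldAutPSUOf_iff _ _).mpr rfl

end Cfsg.Agent.Lib.Helper45.PSUGraph
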