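import Mathlib
import Cfsg.Agent.Lib.Helper45.PSUGraph.Basic
import Cfsg.Agent.Lib.Helper45.PSLGraph.CharTwo
import Cfsg.Agent.Lib.Helper45.SpInv.Count

/-!
# Involutory graph automorphisms of `PSU_n(q)`, `q` even

For a symmetric unitary matrix `g` Hilbert 90 gives `B` with `g B^τ = B`; then `B⁻¹ g B⁻ᵀ` is a
symmetric matrix over the fixed field `F₀`, and the `Inndiag`-class of `xg g` is decided by the
congruence class of that matrix over `F₀`, its centraliser being the isometry group.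
-/

set_option autoImplicit false
set_option linter.unusedSectionVars false

namespace Cfsg.Agent.Lib.Helper45.PSUGraph

open scoped MatrixGroups Matrix
open Matrix Cfsg.Agent.Lib.Helper43 Cfsg.Agent.Lib.Helper45.PSLField
  Cfsg.Agent.Lib.Helper45.SpInv Cfsg.Agent.Lib.Helper45.PSLGraph

variable {n m : ℕ} {F : Type*} [Field F] [Fintype F] {q : ℕ} {F₀ : Type*} [Field F₀]

section Fixed

variable {ι κ : Type*}

/-- a matrix fixed by the `q`-power map comes from the fixed field -/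
theorem exists_map_of_fixed (hF : Fintype.card F = q ^ 2) (j : F₀ →+* F)
    (hj : ∀ a : F, a ^ q = a ↔ ∃ b, j b = a) (M : Matrix ι κ F) (hM : M.map (qAut hF) = M) :
    ∃ M₀ : Matrix ι κ F₀, M₀.map j = M := by
  have h1 : ∀ i k, ∃ b, j b = M i k := by
    intro i k
    apply (hj _).mp
    have := congrFun (congrFun hM i) k
    rw [Matrix.map_apply, qAut_apply] at this
    exact this
  choose f hf using h1
  exact ⟨Matrix.of f, by ext i k; exact hf i k⟩

theorem map_map_fixed (hF : Fintype.card F = q ^ 2) (j : F₀ →+* F)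
    (hj : ∀ a : F, a ^ q = a ↔ ∃ b, j b = a) (M₀ : Matrix ι κ F₀) :
    (M₀.map j).map (qAut hF) = M₀.map j := by
  ext i k
  rw [Matrix.map_apply, Matrix.map_apply, qAut_apply]
  exact (hj _).mpr ⟨_, rfl⟩

theorem map_injective' (j : F₀ →+* F) : Function.Injective (fun M : Matrix ι κ F₀ => M.map j) := by
  intro M N h
  ext i k
  have := congrFun (congrFun h i) k
  simp only [Matrix.map_apply] at this
  exact j.injective this

end Fixed

section Diag

variable {ι : Type*} [Fintype ι] [DecidableEq ι] {K : Type*} [Field K] [CharP K 2]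

/-- congruence preserves the alternating property in characteristic two -/
theorem congr_diag_zero (M : Matrix ι ι K) (hM : Mᵀ = M) (hd : ∀ i, M i i = 0)
    (P : Matrix ι ι K) (i : ι) : (P * M * Pᵀ) i i = 0 := by
  have h := dot_mulVec_self_eq_zero M hM hd (fun k => P i k)
  rw [Matrix.mul_assoc, Matrix.mul_apply]
  rw [dotProduct] at h
  rw [← h]
  apply Finset.sum_congr rfl
  intro k _
  rw [Matrix.mul_apply, mulVec, dotProduct, Finset.mul_sum, Finset.sum_mul]
  apply Finset.sum_congr rfl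
  intro l _
  have hsym : M k l = M l k := by
    have := congrFun (congrFun hM k) l
    rw [Matrix.transpose_apply] at this
    exact this.symm
  rw [Matrix.transpose_apply, hsym]
  ring

end Diag

section Main

variable [CharP F 2] [Fintype F₀]

theorem charP_two_of_embedding (j : F₀ →+* F) : CharP F₀ 2 :=
  (RingHom.charP_iff j j.injective 2).mpr inferInstance

/-- in characteristic two an involutory `xg g` has symmetric `g` -/
theorem symm_of_orderOf_xg (hF : Fintype.card F = q ^ 2) (hn : 3 ≤ n) (g : ↥(Cfsg.GU n F q))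
    (h : orderOf (xg hF g) = 2) :
    ((g : GL (Fin n) F) : Matrix (Fin n) (Fin n) F)ᵀ = ((g : GL (Fin n) F) : Matrix (Fin n) (Fin n) F) := by
  obtain ⟨c, hc⟩ := (orderOf_xg_eq_two_iff hF hn g).mp h
  have h1 : ((g : GL (Fin n) F) : Matrix (Fin n) (Fin n) F)ᵀ =
      c • ((g : GL (Fin n) F) : Matrix (Fin n) (Fin n) F) := by
    conv_lhs => rw [hc]
    rw [Matrix.transpose_smul, Matrix.transpose_transpose]
  have h2 : ((g : GL (Fin n) F) : Matrix (Fin n) (Fin n) F) =
      (c * c) • ((g : GL (Fin n) F) : Matrix (Fin n) (Fin n) F) := by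
    conv_lhs => rw [hc, h1]
    rw [smul_smul]
  have h3 : c * c = 1 := by
    by_contra hne
    have h4 : ((c * c) - 1) • ((g : GL (Fin n) F) : Matrix (Fin n) (Fin n) F) = 0 := by
      rw [sub_smul, one_smul, ← h2, sub_self]
    rcases smul_eq_zero.mp h4 with h5 | h5
    · exact hne (sub_eq_zero.mp h5)
    · exact gu_coe_ne_zero (by omega) _ h5
  rw [h1, eq_one_of_mul_self_eq_one h3, one_smul]

theorem orderOf_xg_of_symm (hF : Fintype.card F = q ^ 2) (hn : 3 ≤ n) (g : ↥(Cfsg.GU n F q))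
    (h : ((g : GL (Fin n) F) : Matrix (Fin n) (Fin n) F)ᵀ =
      ((g : GL (Fin n) F) : Matrix (Fin n) (Fin n) F)) : orderOf (xg hF g) = 2 :=
  (orderOf_xg_eq_two_iff hF hn g).mpr ⟨1, by rw [one_smul, h]⟩

/-- for symmetric unitary `g`, `g * g^τ = 1` -/
theorem symm_mul_map (hF : Fintype.card F = q ^ 2) (g : ↥(Cfsg.GU n F q))
    (hg : ((g : GL (Fin n) F) : Matrix (Fin n) (Fin n) F)ᵀ =
      ((g : GL (Fin n) F) : Matrix (Fin n) (Fin n) F)) :
    ((g : GL (Fin n) F) : Matrix (Fin n) (Fin n) F) *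
      ((g : GL (Fin n) F) : Matrix (Fin n) (Fin n) F).map (qAut hF) = 1 := by
  have h1 := gu_mstar hF g
  have h2 := congrArg Matrix.transpose h1
  rw [Matrix.transpose_mul, Matrix.transpose_one, hg] at h2
  unfold mstar at h2
  rw [Matrix.transpose_transpose] at h2
  exact h2

/-- Hilbert 90 for a symmetric unitary matrix -/
theorem exists_h90 (hF : Fintype.card F = q ^ 2) (g : ↥(Cfsg.GU n F q))
    (hg : ((g : GL (Fin n) F) : Matrix (Fin n) (Fin n) F)ᵀ =
      ((g : GL (Fin n) F) : Matrix (Fin n) (Fin n) F)) :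
    ∃ B B' : Matrix (Fin n) (Fin n) F, B * B' = 1 ∧
      ((g : GL (Fin n) F) : Matrix (Fin n) (Fin n) F) * B.map (qAut hF) = B := by
  have h1 : cocyc (qAut hF) ((g : GL (Fin n) F) : Matrix (Fin n) (Fin n) F) 2 = 1 := by
    rw [cocyc_succ, cocyc_succ, cocyc_zero]
    have : ((1 : Matrix (Fin n) (Fin n) F)).map (qAut hF) = 1 :=
      Matrix.map_one _ (map_zero _) (map_one _)
    rw [this, Matrix.mul_one]
    exact symm_mul_map hF g hg
  obtain ⟨B, hB, hgB⟩ := hilbert90_matrix (qAut hF) (by norm_num) (orderOf_qAut hF) _ h1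
  obtain ⟨⟨B1, B2, h12, h21⟩, rfl⟩ := hB
  exact ⟨B1, B2, h12, hgB⟩

/-- the `τ`-images of `B` and `B⁻¹` when `g B^τ = B` -/
theorem map_of_h90 (hF : Fintype.card F = q ^ 2) (g gi B B' : Matrix (Fin n) (Fin n) F)
    (hgi : gi * g = 1) (hBB' : B * B' = 1) (hgB : g * B.map (qAut hF) = B) :
    B.map (qAut hF) = gi * B ∧ B'.map (qAut hF) = B' * g := by
  have h1 : B.map (qAut hF) = gi * B := by
    conv_rhs => rw [← hgB]
    rw [← Matrix.mul_assoc, hgi, Matrix.one_mul]
  refine ⟨h1, ?_⟩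
  have hB'B : B' * B = 1 := mul_eq_one_comm.mp hBB'
  have h2 : B'.map (qAut hF) * B.map (qAut hF) = 1 := by
    rw [← Matrix.map_mul, hB'B]
    exact Matrix.map_one _ (map_zero _) (map_one _)
  rw [h1, ← Matrix.mul_assoc] at h2
  -- B'^τ gi = B'
  have h3 : B'.map (qAut hF) * gi = B' := by
    calc B'.map (qAut hF) * gi = B'.map (qAut hF) * gi * (B * B') := by rw [hBB', Matrix.mul_one]
      _ = (B'.map (qAut hF) * gi * B) * B' := by rw [Matrix.mul_assoc _ B B']
      _ = B' := by rw [h2, Matrix.one_mul]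
  have hggi : g * gi = 1 := mul_eq_one_comm.mp hgi
  calc B'.map (qAut hF) = B'.map (qAut hF) * (gi * g) := by rw [hgi, Matrix.mul_one]
    _ = (B'.map (qAut hF) * gi) * g := by rw [Matrix.mul_assoc]
    _ = B' * g := by rw [h3]

/-- a matrix `h` with `h g hᵀ = g'` and `h^τ = g'⁻¹ h g` is unitary -/
theorem unitary_of_conj (hF : Fintype.card F = q ^ 2) (g g' gi' h hinv : Matrix (Fin n) (Fin n) F)
    (hg : gᵀ = g) (hgi' : gi'ᵀ = gi') (hh : hinv * h = 1) (hc : h * g * hᵀ = g')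
    (hτ : h.map (qAut hF) = gi' * h * g) (hgg : g' * gi' = 1) :
    mstar (qAut hF) h * h = 1 := by
  unfold mstar
  rw [hτ, Matrix.transpose_mul, Matrix.transpose_mul, hg, hgi']
  have h1 : g * hᵀ = hinv * g' := by
    rw [← hc, ← Matrix.mul_assoc, ← Matrix.mul_assoc, hh, Matrix.one_mul]
  rw [← Matrix.mul_assoc, h1, Matrix.mul_assoc hinv, hgg, Matrix.mul_one, hh]

/-- the descent: `g = B K₀ Bᵀ` with `K₀` symmetric invertible over the fixed field -/
theorem exists_descent (hF : Fintype.card F = q ^ 2) (j : F₀ →+* F)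
    (hj : ∀ a : F, a ^ q = a ↔ ∃ b, j b = a) (g : ↥(Cfsg.GU n F q))
    (hg : ((g : GL (Fin n) F) : Matrix (Fin n) (Fin n) F)ᵀ =
      ((g : GL (Fin n) F) : Matrix (Fin n) (Fin n) F)) :
    ∃ (B B' : Matrix (Fin n) (Fin n) F) (K₀ K₀' : Matrix (Fin n) (Fin n) F₀), B * B' = 1 ∧
      ((g : GL (Fin n) F) : Matrix (Fin n) (Fin n) F) * B.map (qAut hF) = B ∧
      K₀ᵀ = K₀ ∧ K₀ * K₀' = 1 ∧
      ((g : GL (Fin n) F) : Matrix (Fin n) (Fin n) F) = B * K₀.map j * Bᵀ := by
  obtain ⟨B, B', hBB', hgB⟩ := exists_h90 hF g hg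
  set G := ((g : GL (Fin n) F) : Matrix (Fin n) (Fin n) F) with hG
  set Gi := G.map (qAut hF) with hGi
  have hGGi : G * Gi = 1 := symm_mul_map hF g hg
  have hGiG : Gi * G = 1 := mul_eq_one_comm.mp hGGi
  have hGiT : Giᵀ = Gi := by rw [hGi, ← Matrix.transpose_map, hg]
  obtain ⟨hB1, hB2⟩ := map_of_h90 hF G Gi B B' hGiG hBB' hgB
  have hB'B : B' * B = 1 := mul_eq_one_comm.mp hBB'
  -- the fixed symmetric matrix
  set K := B' * G * B'ᵀ with hK
  have hKT : Kᵀ = K := by
    rw [hK, Matrix.transpose_mul, Matrix.transpose_mul, Matrix.transpose_transpose, hg,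
      Matrix.mul_assoc]
  have hGmap : Gi.map (qAut hF) = G := map_qAut_map_qAut hF G
  have hKfix : K.map (qAut hF) = K := by
    rw [hK, Matrix.map_mul, Matrix.map_mul, Matrix.transpose_map, hB2, Matrix.transpose_mul, hg]
    show B' * G * Gi * (G * B'ᵀ) = _
    rw [Matrix.mul_assoc (B' * G), ← Matrix.mul_assoc Gi, hGiG, Matrix.one_mul]
  obtain ⟨K₀, hK₀⟩ := exists_map_of_fixed hF j hj K hKfix
  have hK₀T : K₀ᵀ = K₀ := by
    apply map_injective' j
    show K₀ᵀ.map j = K₀.map j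
    rw [Matrix.transpose_map, hK₀, hKT]
  have hGeq : G = B * K * Bᵀ := by
    rw [hK]
    calc G = (B * B') * G * (B * B')ᵀ := by rw [hBB', Matrix.one_mul, Matrix.transpose_one, Matrix.mul_one]
      _ = _ := by rw [Matrix.transpose_mul]; simp only [Matrix.mul_assoc]
  have hKdet : K.det ≠ 0 := by
    intro h0
    have h1 : G.det = 0 := by
      rw [hGeq, Matrix.det_mul, Matrix.det_mul, h0, mul_zero, zero_mul]
    have h2 : G.det * Gi.det = 1 := by rw [← Matrix.det_mul, hGGi, Matrix.det_one]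
    rw [h1, zero_mul] at h2
    exact zero_ne_one h2
  have hK₀det : K₀.det ≠ 0 := by
    intro h0
    apply hKdet
    rw [← hK₀]
    have := (RingHom.map_det j K₀).symm
    rw [RingHom.mapMatrix_apply] at this
    rw [this, h0, map_zero]
  refine ⟨B, B', K₀, K₀⁻¹, hBB', hgB, hK₀T,
    Matrix.mul_nonsing_inv K₀ (isUnit_iff_ne_zero.mpr hK₀det), ?_⟩
  rw [hK₀]
  exact hGeq

/-- the type is preserved by the descent -/
theorem type_of_descent (j : F₀ →+* F) (G B B' : Matrix (Fin n) (Fin n) F)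
    (K₀ : Matrix (Fin n) (Fin n) F₀) (hG : Gᵀ = G) (hK₀ : K₀ᵀ = K₀) (hBB' : B * B' = 1)
    (hGeq : G = B * K₀.map j * Bᵀ) : (∀ i, G i i = 0) ↔ (∀ i, K₀ i i = 0) := by
  have hB'B : B' * B = 1 := mul_eq_one_comm.mp hBB'
  have hKT : (K₀.map j)ᵀ = K₀.map j := by rw [← Matrix.transpose_map, hK₀]
  constructor
  · intro h i
    have h1 : K₀.map j = B' * G * B'ᵀ := by
      rw [hGeq]
      calc K₀.map j = (B' * B) * K₀.map j * (B' * B)ᵀ := by
            rw [hB'B, Matrix.one_mul, Matrix.transpose_one, Matrix.mul_one]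
        _ = _ := by rw [Matrix.transpose_mul]; simp only [Matrix.mul_assoc]
    have h2 := congr_diag_zero G hG h B' i
    rw [← h1, Matrix.map_apply] at h2
    exact (map_eq_zero_iff j j.injective).mp h2
  · intro h i
    rw [hGeq]
    apply congr_diag_zero _ hKT
    intro k
    rw [Matrix.map_apply, h k, map_zero]

/-- standard form: `g = B T Bᵀ` for any symmetric invertible `T` over `F₀` of the type of `g` -/
theorem exists_std_form (hF : Fintype.card F = q ^ 2) (j : F₀ →+* F)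
    (hj : ∀ a : F, a ^ q = a ↔ ∃ b, j b = a) (g : ↥(Cfsg.GU n F q))
    (hg : ((g : GL (Fin n) F) : Matrix (Fin n) (Fin n) F)ᵀ =
      ((g : GL (Fin n) F) : Matrix (Fin n) (Fin n) F))
    (T T' : Matrix (Fin n) (Fin n) F₀) (hT : Tᵀ = T) (hTT' : T * T' = 1)
    (htype : (∀ i, ((g : GL (Fin n) F) : Matrix (Fin n) (Fin n) F) i i = 0) ↔ (∀ i, T i i = 0)) :
    ∃ (B B' : Matrix (Fin n) (Fin n) F), B * B' = 1 ∧
      ((g : GL (Fin n) F) : Matrix (Fin n) (Fin n) F) * B.map (qAut hF) = B ∧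
      ((g : GL (Fin n) F) : Matrix (Fin n) (Fin n) F) = B * T.map j * Bᵀ := by
  have := charP_two_of_embedding j
  obtain ⟨B, B', K₀, K₀', hBB', hgB, hK₀T, hK₀i, hGeq⟩ := exists_descent hF j hj g hg
  have ht := type_of_descent j _ B B' K₀ hg hK₀T hBB' hGeq
  obtain ⟨A, hA⟩ := exists_congr_of_type hK₀T hT hK₀i hTT' (ht.symm.trans htype)
  have hAdet : IsUnit A.det := by
    have h3 : IsUnit (A * K₀ * Aᵀ).det := by
      rw [hA]
      exact (Matrix.isUnit_iff_isUnit_det T).mp (IsUnit.of_mul_eq_one _ hTT')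
    rw [Matrix.det_mul, Matrix.det_mul] at h3
    exact isUnit_of_mul_isUnit_left (isUnit_of_mul_isUnit_left h3)
  have hAinv : A * A⁻¹ = 1 := Matrix.mul_nonsing_inv A hAdet
  have hAinv' : A⁻¹ * A = 1 := Matrix.nonsing_inv_mul A hAdet
  have hj1 : (A⁻¹).map j * A.map j = 1 := by
    rw [← Matrix.map_mul, hAinv']
    exact Matrix.map_one _ (map_zero _) (map_one _)
  refine ⟨B * (A⁻¹).map j, A.map j * B', ?_, ?_, ?_⟩
  · rw [Matrix.mul_assoc, ← Matrix.mul_assoc ((A⁻¹).map j), hj1, Matrix.one_mul, hBB']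
  · rw [Matrix.map_mul, map_map_fixed hF j hj, ← Matrix.mul_assoc, hgB]
  · rw [hGeq, ← hA]
    rw [Matrix.map_mul, Matrix.map_mul, Matrix.transpose_mul, Matrix.transpose_map]
    have hj2 : A.map j * (A⁻¹).map j = 1 := mul_eq_one_comm.mp hj1
    have hj3 : (A.map j)ᵀ * ((A⁻¹).map j)ᵀ = 1 := by
      rw [← Matrix.transpose_mul, hj1, Matrix.transpose_one]
    calc B * K₀.map j * Bᵀ = B * (((A⁻¹).map j * A.map j) * K₀.map j *
          ((A.map j)ᵀ * ((A⁻¹).map j)ᵀ)) * Bᵀ := by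
          rw [hj1, hj3, Matrix.one_mul, Matrix.mul_one]
      _ = _ := by
          simp only [Matrix.mul_assoc]

/-- symmetric unitary matrices of the same type give conjugate automorphisms -/
theorem isConjUnder_of_same_type (hF : Fintype.card F = q ^ 2) (hn : 3 ≤ n)
    (j : F₀ →+* F) (hj : ∀ a : F, a ^ q = a ↔ ∃ b, j b = a) (g g' : ↥(Cfsg.GU n F q))
    (hg : ((g : GL (Fin n) F) : Matrix (Fin n) (Fin n) F)ᵀ =
      ((g : GL (Fin n) F) : Matrix (Fin n) (Fin n) F))
    (hg' : ((g' : GL (Fin n) F) : Matrix (Fin n) (Fin n) F)ᵀ =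
      ((g' : GL (Fin n) F) : Matrix (Fin n) (Fin n) F))
    (htype : (∀ i, ((g : GL (Fin n) F) : Matrix (Fin n) (Fin n) F) i i = 0) ↔
      (∀ i, ((g' : GL (Fin n) F) : Matrix (Fin n) (Fin n) F) i i = 0)) :
    Cfsg.IsConjUnder (Cfsg.inndiagPSU n F q) (xg hF g) (xg hF g') := by
  obtain ⟨C, C', K₀, K₀', hCC', hgC, hK₀T, hK₀i, hG'eq⟩ := exists_descent hF j hj g' hg'
  have ht := type_of_descent j _ C C' K₀ hg' hK₀T hCC' hG'eq
  obtain ⟨B, B', hBB', hgB, hGeq⟩ := exists_std_form hF j hj g hg K₀ K₀' hK₀T hK₀i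
    (htype.trans ht)
  set G := ((g : GL (Fin n) F) : Matrix (Fin n) (Fin n) F) with hG
  set G' := ((g' : GL (Fin n) F) : Matrix (Fin n) (Fin n) F) with hG'
  set Gi := G.map (qAut hF) with hGi
  set Gi' := G'.map (qAut hF) with hGi'
  have hGGi : G * Gi = 1 := symm_mul_map hF g hg
  have hGiG : Gi * G = 1 := mul_eq_one_comm.mp hGGi
  have hGGi' : G' * Gi' = 1 := symm_mul_map hF g' hg'
  have hGiG' : Gi' * G' = 1 := mul_eq_one_comm.mp hGGi'
  have hGiT' : Gi'ᵀ = Gi' := by rw [hGi', ← Matrix.transpose_map, hg']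
  obtain ⟨hB1, hB2⟩ := map_of_h90 hF G Gi B B' hGiG hBB' hgB
  obtain ⟨hC1, hC2⟩ := map_of_h90 hF G' Gi' C C' hGiG' hCC' hgC
  have hB'B : B' * B = 1 := mul_eq_one_comm.mp hBB'
  have hC'C : C' * C = 1 := mul_eq_one_comm.mp hCC'
  have hconj : (C * B') * G * (C * B')ᵀ = G' := by
    rw [hG'eq, hGeq, Matrix.transpose_mul]
    calc C * B' * (B * K₀.map j * Bᵀ) * (B'ᵀ * Cᵀ)
        = C * ((B' * B) * K₀.map j * (B' * B)ᵀ) * Cᵀ := by
          rw [Matrix.transpose_mul]; simp only [Matrix.mul_assoc]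
      _ = _ := by rw [hB'B, Matrix.one_mul, Matrix.transpose_one, Matrix.mul_one]
  have hunit : mstar (qAut hF) (C * B') * (C * B') = 1 := by
    apply unitary_of_conj hF G G' Gi' (C * B') (B * C') hg hGiT' ?_ hconj ?_ hGGi'
    · rw [Matrix.mul_assoc, ← Matrix.mul_assoc C', hC'C, Matrix.one_mul, hBB']
    · rw [Matrix.map_mul, hC1, hB2]
      simp only [Matrix.mul_assoc]
  rw [isConjUnder_xg_iff hF hn]
  refine ⟨guMk hF (C * B') hunit, 1, ?_⟩
  rw [one_smul, guMk_coe, hconj]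

/-- an alternating and a non-alternating symmetric matrix give non-conjugate automorphisms -/
theorem not_isConjUnder_of_type (hF : Fintype.card F = q ^ 2) (hn : 3 ≤ n)
    (g g' : ↥(Cfsg.GU n F q))
    (hg : ((g : GL (Fin n) F) : Matrix (Fin n) (Fin n) F)ᵀ =
      ((g : GL (Fin n) F) : Matrix (Fin n) (Fin n) F))
    (hd : ∀ i, ((g : GL (Fin n) F) : Matrix (Fin n) (Fin n) F) i i = 0)
    (hd' : ∃ i, ((g' : GL (Fin n) F) : Matrix (Fin n) (Fin n) F) i i ≠ 0) :
    ¬ Cfsg.IsConjUnder (Cfsg.inndiagPSU n F q) (xg hF g) (xg hF g') := by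
  rw [isConjUnder_xg_iff hF hn]
  rintro ⟨h, c, hc⟩
  obtain ⟨i, hi⟩ := hd'
  apply hi
  rw [hc, Matrix.smul_apply, congr_diag_zero _ hg hd, smul_zero]

end Main

end Cfsg.Agent.Lib.Helper45.PSUGraph
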