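import Mathlib
import Cfsg.Agent.Lib.Helper45.PSUGraph.Basic
import Cfsg.Agent.Lib.Helper44.GraphInv1

/-!
# Involutory graph automorphisms of `PSU_n(q)`: descent to the fixed field (all characteristics)

For `g` unitary with `(λ g) B^τ = B` and `θ (B^* B) = j(M₀)` for a matrix `M₀` over the fixed field
`F₀`, the `Inndiag`-class of `xg g` is controlled by the similarity class of the bilinear form of
`M₀`, and its centraliser in `Inndiag` is the projective similarity group of that form.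
-/

set_option autoImplicit false
set_option linter.unusedSectionVars false

namespace Cfsg.Agent.Lib.Helper45.PSUGraph

open scoped MatrixGroups Matrix
open Matrix Cfsg.Agent.Lib.Helper43 Cfsg.Agent.Lib.Helper5 Cfsg.Agent.Lib.Helper45.PSLField
  Cfsg.Agent.Lib.Helper44.GraphInv

variable {n : ℕ} {F : Type*} [Field F] [Fintype F] {q : ℕ} {F₀ : Type*} [Field F₀]

/-- the `τ`-images of `B` and `B⁻¹` when `G B^τ = B` -/
theorem map_of_h90' (hF : Fintype.card F = q ^ 2) (g gi B B' : Matrix (Fin n) (Fin n) F)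
    (hgi : gi * g = 1) (hBB' : B * B' = 1) (hgB : g * B.map (qAut hF) = B) :
    B.map (qAut hF) = gi * B ∧ B'.map (qAut hF) = B' * g := by
  have h1 : B.map (qAut hF) = gi * B := by
    conv_rhs => rw [← hgB]
    rw [← Matrix.mul_assoc, hgi, Matrix.one_mul]
  refine ⟨h1, ?_⟩
  have hB'B : B' * B = 1 := mul_eq_one_comm.mp hBB'
  have h2 : B'.map (qAut hF) * B.map (qAut hF) = 1 := by
    rw [← Matrix.map_mul, hB'B]
    exact Matrix.map_one _ (map_zero _) (map_one _)
  rw [h1, ← Matrix.mul_assoc] at h2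
  have h3 : B'.map (qAut hF) * gi = B' := by
    calc B'.map (qAut hF) * gi = B'.map (qAut hF) * gi * (B * B') := by rw [hBB', Matrix.mul_one]
      _ = (B'.map (qAut hF) * gi * B) * B' := by rw [Matrix.mul_assoc _ B B']
      _ = B' := by rw [h2, Matrix.one_mul]
  calc B'.map (qAut hF) = B'.map (qAut hF) * (gi * g) := by rw [hgi, Matrix.mul_one]
    _ = (B'.map (qAut hF) * gi) * g := by rw [Matrix.mul_assoc]
    _ = B' * g := by rw [h3]

/-- Descent data for a unitary matrix `g`: `(λ g) B^τ = B` and `θ B^* B = j(M₀)`. -/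
structure Desc (hF : Fintype.card F = q ^ 2) (j : F₀ →+* F) (g : ↥(Cfsg.GU n F q)) where
  lam : F
  B : Matrix (Fin n) (Fin n) F
  B' : Matrix (Fin n) (Fin n) F
  hBB' : B * B' = 1
  hgB : (lam • ((g : GL (Fin n) F) : Matrix (Fin n) (Fin n) F)) * B.map (qAut hF) = B
  θ : F
  hθ : θ ≠ 0
  M₀ : Matrix (Fin n) (Fin n) F₀
  hM : θ • (mstar (qAut hF) B * B) = M₀.map j

namespace Desc

variable {hF : Fintype.card F = q ^ 2} {j : F₀ →+* F} {g g' : ↥(Cfsg.GU n F q)}

theorem hB'B (D : Desc hF j g) : D.B' * D.B = 1 := mul_eq_one_comm.mp D.hBB'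

theorem lam_ne_zero (hn : 1 ≤ n) (D : Desc hF j g) : D.lam ≠ 0 := by
  intro h0
  have h1 := D.hgB
  rw [h0, zero_smul, Matrix.zero_mul] at h1
  have h2 := D.hBB'
  rw [← h1, Matrix.zero_mul] at h2
  have := congrFun (congrFun h2 ⟨0, by omega⟩) ⟨0, by omega⟩
  simp at this

/-- `λ g` -/
def Gt (D : Desc hF j g) : Matrix (Fin n) (Fin n) F :=
  D.lam • ((g : GL (Fin n) F) : Matrix (Fin n) (Fin n) F)

/-- the inverse of `λ g` -/
def Gti (D : Desc hF j g) : Matrix (Fin n) (Fin n) F :=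
  D.lam⁻¹ • ((((g : GL (Fin n) F)⁻¹ : GL (Fin n) F)) : Matrix (Fin n) (Fin n) F)

theorem Gti_mul_Gt (hn : 1 ≤ n) (D : Desc hF j g) : D.Gti * D.Gt = 1 := by
  unfold Gti Gt
  rw [Matrix.smul_mul, Matrix.mul_smul, smul_smul, inv_mul_cancel₀ (D.lam_ne_zero hn), one_smul,
    ← Units.val_mul, inv_mul_cancel, Units.val_one]

theorem Gt_mul_Gti (hn : 1 ≤ n) (D : Desc hF j g) : D.Gt * D.Gti = 1 :=
  mul_eq_one_comm.mp (D.Gti_mul_Gt hn)

theorem map_B (hn : 1 ≤ n) (D : Desc hF j g) : D.B.map (qAut hF) = D.Gti * D.B :=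
  (map_of_h90' hF D.Gt D.Gti D.B D.B' (D.Gti_mul_Gt hn) D.hBB' D.hgB).1

theorem map_B' (hn : 1 ≤ n) (D : Desc hF j g) : D.B'.map (qAut hF) = D.B' * D.Gt :=
  (map_of_h90' hF D.Gt D.Gti D.B D.B' (D.Gti_mul_Gt hn) D.hBB' D.hgB).2

theorem mstar_B' (D : Desc hF j g) :
    mstar (qAut hF) D.B' * (mstar (qAut hF) D.B * D.B) * D.B' = 1 := by
  rw [← Matrix.mul_assoc, ← mstar_mul, D.hBB', mstar_one, Matrix.one_mul, D.hBB']

end Desc

section Twist

variable {hF : Fintype.card F = q ^ 2} {j : F₀ →+* F} {g g' : ↥(Cfsg.GU n F q)}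

theorem map_smul' (σ : RingAut F) (c : F) (M : Matrix (Fin n) (Fin n) F) :
    (c • M).map σ = σ c • M.map σ := by
  ext i k
  simp only [Matrix.map_apply, Matrix.smul_apply, smul_eq_mul, map_mul]

theorem map_smul_hom (j : F₀ →+* F) (c : F₀) (M : Matrix (Fin n) (Fin n) F₀) :
    (c • M).map j = j c • M.map j := by
  ext i k
  simp only [Matrix.map_apply, Matrix.smul_apply, smul_eq_mul, map_mul]

/-- a similarity between the descended forms gives a unitary matrix carrying `g` to a multiple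
of `g'` -/
theorem twist (hn : 1 ≤ n) (hjq : ∀ a : F₀, j a ^ q = j a) (D : Desc hF j g) (E : Desc hF j g')
    (hθ : D.θ = E.θ) (P₀ : Matrix (Fin n) (Fin n) F₀) (c₀ : F₀)
    (hP : P₀ᵀ * E.M₀ * P₀ = c₀ • D.M₀) (μ : F) (hμ : μ * μ ^ q * j c₀ = 1) :
    mstar (qAut hF) (μ • (E.B * P₀.map j * D.B')) * (μ • (E.B * P₀.map j * D.B')) = 1 ∧
      ∃ κ : F, κ ≠ 0 ∧ (μ • (E.B * P₀.map j * D.B')) *
        ((g : GL (Fin n) F) : Matrix (Fin n) (Fin n) F) * (μ • (E.B * P₀.map j * D.B'))ᵀ =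
          κ • ((g' : GL (Fin n) F) : Matrix (Fin n) (Fin n) F) := by
  set P := P₀.map j with hPdef
  set U := μ • (E.B * P * D.B') with hU
  have hμ0 : μ ≠ 0 := by
    rintro rfl
    rw [zero_mul, zero_mul] at hμ
    exact zero_ne_one hμ
  -- the form relation over `F`
  have h1 : mstar (qAut hF) P * (mstar (qAut hF) E.B * E.B) * P =
      j c₀ • (mstar (qAut hF) D.B * D.B) := by
    have h2 : D.θ • (mstar (qAut hF) P * (mstar (qAut hF) E.B * E.B) * P) =
        D.θ • (j c₀ • (mstar (qAut hF) D.B * D.B)) := by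
      rw [smul_comm, D.hM, ← map_smul_hom, ← hP, Matrix.map_mul, Matrix.map_mul, ← E.hM, ← hθ,
        hPdef, mstar_map_fixed hF j hjq]
      simp only [Matrix.mul_smul, Matrix.smul_mul]
    have := congrArg (fun M => D.θ⁻¹ • M) h2
    simp only [smul_smul, inv_mul_cancel₀ D.hθ, one_smul, inv_mul_cancel_left₀ D.hθ] at this
    exact this
  have hunit : mstar (qAut hF) U * U = 1 := by
    rw [hU, mstar_smul, mstar_mul, mstar_mul, Matrix.smul_mul, Matrix.mul_smul, smul_smul]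
    have h3 : mstar (qAut hF) D.B' * (mstar (qAut hF) P * mstar (qAut hF) E.B) * (E.B * P * D.B') =
        mstar (qAut hF) D.B' * (mstar (qAut hF) P * (mstar (qAut hF) E.B * E.B) * P) * D.B' := by
      simp only [Matrix.mul_assoc]
    rw [h3, h1, Matrix.mul_smul, Matrix.smul_mul, D.mstar_B', smul_smul, qAut_apply]
    have : μ ^ q * μ * j c₀ = 1 := by rw [mul_comm (μ ^ q)]; exact hμ
    rw [this, one_smul]
  refine ⟨hunit, ?_⟩
  -- the `τ`-image of `U`
  have hτμ : (qAut hF) μ ≠ 0 := (map_ne_zero _).mpr hμ0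
  have hUτ : U.map (qAut hF) = ((qAut hF) μ * μ⁻¹) • (E.Gti * U * D.Gt) := by
    rw [hU, map_smul', Matrix.map_mul, Matrix.map_mul, E.map_B hn, D.map_B' hn, hPdef,
      show (P₀.map j).map (qAut hF) = P₀.map j from by
        ext i k
        rw [Matrix.map_apply, Matrix.map_apply, qAut_apply, hjq]]
    simp only [Matrix.mul_smul, Matrix.smul_mul, smul_smul, Matrix.mul_assoc]
    rw [mul_assoc, inv_mul_cancel₀ hμ0, mul_one]
  -- Uᵀ U^τ = 1
  have h4 : Uᵀ * U.map (qAut hF) = 1 := by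
    have := congrArg Matrix.transpose hunit
    unfold mstar at this
    rw [Matrix.transpose_mul, Matrix.transpose_transpose, Matrix.transpose_one] at this
    exact this
  set κ' := (qAut hF) μ * μ⁻¹ with hκ'
  have hκ'0 : κ' ≠ 0 := mul_ne_zero hτμ (inv_ne_zero hμ0)
  rw [hUτ, Matrix.mul_smul, ← Matrix.smul_mul] at h4
  have h5 : (E.Gti * U * D.Gt) * (κ' • Uᵀ) = 1 := mul_eq_one_comm.mp h4
  have h6 : U * D.Gt * Uᵀ = κ'⁻¹ • E.Gt := by
    have h7 : E.Gt * ((E.Gti * U * D.Gt) * (κ' • Uᵀ)) = E.Gt := by rw [h5, Matrix.mul_one]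
    have h8 : E.Gt * ((E.Gti * U * D.Gt) * (κ' • Uᵀ)) = κ' • (U * D.Gt * Uᵀ) := by
      calc E.Gt * ((E.Gti * U * D.Gt) * (κ' • Uᵀ))
          = κ' • ((E.Gt * E.Gti) * U * D.Gt * Uᵀ) := by
            simp only [Matrix.mul_smul, Matrix.mul_assoc]
        _ = _ := by rw [E.Gt_mul_Gti hn, Matrix.one_mul]
    rw [h8] at h7
    rw [← h7, smul_smul, inv_mul_cancel₀ hκ'0, one_smul]
  refine ⟨κ'⁻¹ * E.lam * D.lam⁻¹, mul_ne_zero (mul_ne_zero (inv_ne_zero hκ'0) (E.lam_ne_zero hn))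
    (inv_ne_zero (D.lam_ne_zero hn)), ?_⟩
  unfold Desc.Gt at h6
  rw [Matrix.mul_smul, Matrix.smul_mul] at h6
  have := congrArg (fun M => D.lam⁻¹ • M) h6
  simp only [smul_smul, inv_mul_cancel₀ (D.lam_ne_zero hn), one_smul] at this
  rw [this]
  congr 1
  ring

/-- conversely a unitary matrix carrying `g` to a multiple of `g'` gives a similarity between
the descended forms -/
theorem sim_of_conj (hn : 1 ≤ n) (hj : ∀ a : F, a ^ q = a ↔ ∃ b, j b = a)
    (D : Desc hF j g) (E : Desc hF j g') (hθ : D.θ = E.θ) (h : ↥(Cfsg.GU n F q)) (c : F)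
    (hc : ((g' : GL (Fin n) F) : Matrix (Fin n) (Fin n) F) =
      c • (((h : GL (Fin n) F) : Matrix (Fin n) (Fin n) F) *
        ((g : GL (Fin n) F) : Matrix (Fin n) (Fin n) F) *
          ((h : GL (Fin n) F) : Matrix (Fin n) (Fin n) F)ᵀ)) :
    ∃ (P₀ : Matrix (Fin n) (Fin n) F₀) (b : F) (c₀ : F₀), b ≠ 0 ∧ c₀ ≠ 0 ∧
      P₀.map j = b • (E.B' * ((h : GL (Fin n) F) : Matrix (Fin n) (Fin n) F) * D.B) ∧
      P₀ᵀ * E.M₀ * P₀ = c₀ • D.M₀ := by
  have hjq : ∀ a : F₀, j a ^ q = j a := fun a => (hj (j a)).mpr ⟨a, rfl⟩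
  set H := ((h : GL (Fin n) F) : Matrix (Fin n) (Fin n) F) with hH
  have hHu : mstar (qAut hF) H * H = 1 := gu_mstar hF h
  have hc0 : c ≠ 0 := by
    rintro rfl
    rw [zero_smul] at hc
    exact gu_coe_ne_zero hn _ hc
  -- Hᵀ H^τ = 1
  have h4 : Hᵀ * H.map (qAut hF) = 1 := by
    have := congrArg Matrix.transpose hHu
    unfold mstar at this
    rw [Matrix.transpose_mul, Matrix.transpose_transpose, Matrix.transpose_one] at this
    exact this
  set κ := E.lam * c * D.lam⁻¹ with hκ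
  have hκ0 : κ ≠ 0 := mul_ne_zero (mul_ne_zero (E.lam_ne_zero hn) hc0)
    (inv_ne_zero (D.lam_ne_zero hn))
  have h5 : E.Gt = κ • (H * D.Gt * Hᵀ) := by
    unfold Desc.Gt
    rw [hc, Matrix.mul_smul, Matrix.smul_mul, smul_smul, smul_smul, hκ, mul_assoc, mul_assoc,
      inv_mul_cancel₀ (D.lam_ne_zero hn), mul_one]
  have h6 : E.Gt * H.map (qAut hF) = κ • (H * D.Gt) := by
    rw [h5, Matrix.smul_mul, Matrix.mul_assoc, h4, Matrix.mul_one]
  set A' := E.B' * H * D.B with hA'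
  have hA'τ : A'.map (qAut hF) = κ • A' := by
    rw [hA', Matrix.map_mul, Matrix.map_mul, E.map_B' hn, D.map_B hn]
    calc E.B' * E.Gt * H.map (qAut hF) * (D.Gti * D.B)
        = E.B' * (E.Gt * H.map (qAut hF)) * (D.Gti * D.B) := by simp only [Matrix.mul_assoc]
      _ = κ • (E.B' * H * (D.Gt * D.Gti) * D.B) := by
          rw [h6]; simp only [Matrix.mul_smul, Matrix.smul_mul, Matrix.mul_assoc]
      _ = _ := by rw [D.Gt_mul_Gti hn, Matrix.mul_one]
  have hA'0 : A' ≠ 0 := by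
    intro h0
    have h7 : E.B * A' * D.B' = H := by
      rw [hA']
      calc E.B * (E.B' * H * D.B) * D.B' = (E.B * E.B') * H * (D.B * D.B') := by
            simp only [Matrix.mul_assoc]
        _ = H := by rw [E.hBB', D.hBB', Matrix.one_mul, Matrix.mul_one]
    rw [h0, Matrix.mul_zero, Matrix.zero_mul] at h7
    exact gu_coe_ne_zero hn _ h7.symm
  obtain ⟨b, hb0, hb⟩ := exists_fixed_multiple (qAut hF) (by norm_num : 0 < 2)
    (orderOf_qAut hF) A' hA'0 κ hA'τ
  have hent : ∀ k l, ∃ a : F₀, j a = (b • A') k l := by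
    intro k l
    apply (hj _).mp
    have := congrFun (congrFun hb k) l
    rw [Matrix.map_apply, qAut_apply] at this
    exact this
  choose a ha using hent
  have hmap : (Matrix.of a).map j = b • A' := by
    ext k l
    rw [Matrix.map_apply, Matrix.of_apply, ha]
  set N : F := b * b ^ q with hN
  have hN0 : N ≠ 0 := mul_ne_zero hb0 (pow_ne_zero _ hb0)
  obtain ⟨c₀, hc₀⟩ := (hj N).mp (norm_pow_q hF b)
  have hc₀0 : c₀ ≠ 0 := by
    rintro rfl
    rw [map_zero] at hc₀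
    exact hN0 hc₀.symm
  refine ⟨Matrix.of a, b, c₀, hb0, hc₀0, hmap, ?_⟩
  -- the form relation
  have hinj : Function.Injective (fun M : Matrix (Fin n) (Fin n) F₀ => M.map j) := by
    intro M N' hMN
    ext k l
    apply j.injective
    exact congrFun (congrFun hMN k) l
  apply hinj
  show ((Matrix.of a)ᵀ * E.M₀ * Matrix.of a).map j = (c₀ • D.M₀).map j
  rw [Matrix.map_mul, Matrix.map_mul, ← mstar_map_fixed hF j hjq, hmap, ← E.hM, map_smul_hom,
    ← D.hM, hc₀, ← hθ, mstar_smul, hA', mstar_mul, mstar_mul]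
  have h8 : mstar (qAut hF) D.B * (mstar (qAut hF) H * mstar (qAut hF) E.B') *
      (mstar (qAut hF) E.B * E.B) * (E.B' * H * D.B) = mstar (qAut hF) D.B * D.B := by
    calc mstar (qAut hF) D.B * (mstar (qAut hF) H * mstar (qAut hF) E.B') *
          (mstar (qAut hF) E.B * E.B) * (E.B' * H * D.B)
        = mstar (qAut hF) D.B * (mstar (qAut hF) H *
            (mstar (qAut hF) E.B' * (mstar (qAut hF) E.B * E.B) * E.B') * H) * D.B := by
          simp only [Matrix.mul_assoc]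
      _ = _ := by rw [E.mstar_B', Matrix.mul_one, hHu, Matrix.mul_one]
  simp only [Matrix.mul_smul, Matrix.smul_mul, smul_smul]
  rw [h8, qAut_apply, hN]
  congr 1
  ring

end Twist

end Cfsg.Agent.Lib.Helper45.PSUGraph
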