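import Mathlib
import Cfsg.Agent.Lib.Helper45.PSUGraph.Sim

/-!
# The centraliser of an involutory graph automorphism of `PSU_n(q)` (all characteristics)

With descent data `D` for `g`, `C_{Inndiag}(xg g) ≃* projQuot (similarityGroup (bf D.M₀))`.
-/

set_option autoImplicit false
set_option linter.unusedSectionVars false

namespace Cfsg.Agent.Lib.Helper45.PSUGraph

open scoped MatrixGroups Matrix
open Matrix Cfsg.Agent.Lib.Helper43 Cfsg.Agent.Lib.Helper5 Cfsg.Agent.Lib.Helper45.PSLField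
  Cfsg.Agent.Lib.Helper44.GraphInv

variable {n : ℕ} {F : Type*} [Field F] [Fintype F] {q : ℕ} {F₀ : Type*} [Field F₀]
variable {hF : Fintype.card F = q ^ 2} {j : F₀ →+* F} {g : ↥(Cfsg.GU n F q)}

/-- a similarity of the descended form has a unitary multiple centralising `xg g` -/
theorem exists_gu_of_sim (hn : 3 ≤ n) (hjq : ∀ a : F₀, j a ^ q = j a) (D : Desc hF j g)
    (A₀ : GL (Fin n) F₀) (hA₀ : A₀ ∈ Cfsg.Geo.similarityGroup (bf D.M₀)) :
    ∃ (u : ↥(Cfsg.GU n F q)) (μ : F), μ ≠ 0 ∧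
      ((u : GL (Fin n) F) : Matrix (Fin n) (Fin n) F) =
        μ • (D.B * ((A₀ : Matrix (Fin n) (Fin n) F₀)).map j * D.B') ∧
      (psuDiag u : MulAut (Cfsg.PSU n F q)) ∈ Subgroup.centralizer {xg hF g} := by
  obtain ⟨c, hc⟩ := (mem_sim_bf_iff _ A₀).mp hA₀
  have hd : (j ((c : F₀)⁻¹)) ^ q = j ((c : F₀)⁻¹) := hjq _
  obtain ⟨μ, hμ⟩ := exists_norm_eq hF hd
  have hμ1 : μ * μ ^ q * j (c : F₀) = 1 := by
    rw [hμ, ← map_mul, inv_mul_cancel₀ c.ne_zero, map_one]
  have hμ0 : μ ≠ 0 := by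
    rintro rfl
    rw [zero_mul, zero_mul] at hμ1
    exact zero_ne_one hμ1
  obtain ⟨hunit, κ, hκ0, hκ⟩ := twist (by omega) hjq D D rfl _ _ hc μ hμ1
  refine ⟨guMk hF _ hunit, μ, hμ0, rfl, ?_⟩
  rw [mem_centralizer_xg_iff hF hn]
  exact ⟨κ, hκ⟩

/-- the inner-diagonal automorphism attached to a similarity of the descended form -/
noncomputable def simFun (hn : 3 ≤ n) (hjq : ∀ a : F₀, j a ^ q = j a) (D : Desc hF j g)
    (A₀ : ↥(Cfsg.Geo.similarityGroup (bf D.M₀))) : MulAut (Cfsg.PSU n F q) :=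
  psuDiag (Classical.choose (exists_gu_of_sim hn hjq D A₀.1 A₀.2))

theorem simFun_eq (hn : 3 ≤ n) (hjq : ∀ a : F₀, j a ^ q = j a) (D : Desc hF j g)
    (A₀ : ↥(Cfsg.Geo.similarityGroup (bf D.M₀))) (u : ↥(Cfsg.GU n F q)) (μ : F) (hμ : μ ≠ 0)
    (hu : ((u : GL (Fin n) F) : Matrix (Fin n) (Fin n) F) =
      μ • (D.B * ((A₀.1 : Matrix (Fin n) (Fin n) F₀)).map j * D.B')) :
    simFun hn hjq D A₀ = psuDiag u := by
  obtain ⟨μ₀, hμ₀, hu₀, -⟩ := Classical.choose_spec (exists_gu_of_sim hn hjq D A₀.1 A₀.2)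
  unfold simFun
  apply psuDiag_eq_of_smul _ _ (μ₀ * μ⁻¹)
  rw [hu₀, hu, smul_smul, inv_mul_cancel_right₀ hμ]

/-- similarities of the descended form act on `PSU_n` -/
noncomputable def simHom (hn : 3 ≤ n) (hjq : ∀ a : F₀, j a ^ q = j a) (D : Desc hF j g) :
    ↥(Cfsg.Geo.similarityGroup (bf D.M₀)) →* MulAut (Cfsg.PSU n F q) where
  toFun := simFun hn hjq D
  map_one' := by
    rw [simFun_eq hn hjq D 1 1 1 one_ne_zero, map_one]
    rw [one_smul]
    show (1 : Matrix (Fin n) (Fin n) F) = D.B * (1 : Matrix (Fin n) (Fin n) F₀).map j * D.B'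
    rw [Matrix.map_one _ (map_zero _) (map_one _), Matrix.mul_one, D.hBB']
  map_mul' A₀ A₁ := by
    obtain ⟨μg, hμg, hug, -⟩ := Classical.choose_spec (exists_gu_of_sim hn hjq D A₀.1 A₀.2)
    obtain ⟨μh, hμh, huh, -⟩ := Classical.choose_spec (exists_gu_of_sim hn hjq D A₁.1 A₁.2)
    set ug := Classical.choose (exists_gu_of_sim hn hjq D A₀.1 A₀.2) with hugdef
    set uh := Classical.choose (exists_gu_of_sim hn hjq D A₁.1 A₁.2) with huhdef
    have h1 : simFun hn hjq D A₀ = psuDiag ug := rfl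
    have h2' : simFun hn hjq D A₁ = psuDiag uh := rfl
    rw [h1, h2', ← map_mul]
    apply simFun_eq hn hjq D (A₀ * A₁) (ug * uh) (μg * μh) (mul_ne_zero hμg hμh)
    show ((ug : GL (Fin n) F) : Matrix (Fin n) (Fin n) F) *
      ((uh : GL (Fin n) F) : Matrix (Fin n) (Fin n) F) =
      (μg * μh) • (D.B * ((A₀.1 : Matrix (Fin n) (Fin n) F₀) *
        (A₁.1 : Matrix (Fin n) (Fin n) F₀)).map j * D.B')
    rw [hug, huh, Matrix.smul_mul, Matrix.mul_smul, smul_smul, Matrix.map_mul]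
    congr 1
    calc D.B * ((A₀.1 : Matrix (Fin n) (Fin n) F₀)).map j * D.B' *
          (D.B * ((A₁.1 : Matrix (Fin n) (Fin n) F₀)).map j * D.B')
        = D.B * (((A₀.1 : Matrix (Fin n) (Fin n) F₀)).map j * ((D.B' * D.B) *
            ((A₁.1 : Matrix (Fin n) (Fin n) F₀)).map j)) * D.B' := by
          simp only [Matrix.mul_assoc]
      _ = _ := by rw [D.hB'B, Matrix.one_mul]

theorem simHom_apply (hn : 3 ≤ n) (hjq : ∀ a : F₀, j a ^ q = j a) (D : Desc hF j g)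
    (A₀ : ↥(Cfsg.Geo.similarityGroup (bf D.M₀))) :
    simHom hn hjq D A₀ = simFun hn hjq D A₀ := rfl

/-- the centraliser of `xg g` in `Inndiag` is the image of the similarity group -/
theorem mem_inndiag_centralizer_xg_iff (hn : 3 ≤ n) (hj : ∀ a : F, a ^ q = a ↔ ∃ b, j b = a)
    (hjq : ∀ a : F₀, j a ^ q = j a) (D : Desc hF j g) (β : MulAut (Cfsg.PSU n F q)) :
    β ∈ Cfsg.inndiagPSU n F q ⊓ Subgroup.centralizer {xg hF g} ↔
      ∃ A₀ : ↥(Cfsg.Geo.similarityGroup (bf D.M₀)), simHom hn hjq D A₀ = β := by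
  have h1n : 1 ≤ n := by omega
  rw [Subgroup.mem_inf]
  constructor
  · rintro ⟨hβ1, hβ2⟩
    rw [inndiagPSU_eq_range] at hβ1
    obtain ⟨u, rfl⟩ := hβ1
    obtain ⟨c, hc⟩ := (mem_centralizer_xg_iff hF hn u g).mp hβ2
    set U := ((u : GL (Fin n) F) : Matrix (Fin n) (Fin n) F) with hU
    set G := ((g : GL (Fin n) F) : Matrix (Fin n) (Fin n) F) with hG
    set Ui := ((((u : GL (Fin n) F)⁻¹ : GL (Fin n) F)) : Matrix (Fin n) (Fin n) F) with hUi
    have hUiU : Ui * U = 1 := by rw [hUi, hU, ← Units.val_mul, inv_mul_cancel, Units.val_one]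
    have hUUi : U * Ui = 1 := mul_eq_one_comm.mp hUiU
    have hc0 : c ≠ 0 := by
      rintro rfl
      rw [zero_smul] at hc
      have h1 : G = Ui * (U * G * Uᵀ) * Uiᵀ := by
        calc G = (Ui * U) * G * (Ui * U)ᵀ := by
              rw [hUiU, Matrix.one_mul, Matrix.transpose_one, Matrix.mul_one]
          _ = _ := by rw [Matrix.transpose_mul]; simp only [Matrix.mul_assoc]
      rw [hc, Matrix.mul_zero, Matrix.zero_mul] at h1
      exact gu_coe_ne_zero h1n _ h1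
    have hc' : G = c⁻¹ • (U * G * Uᵀ) := by
      rw [hc, smul_smul, inv_mul_cancel₀ hc0, one_smul]
    obtain ⟨P₀, b, c₀, hb0, hc₀0, hP₀, hPM⟩ := sim_of_conj h1n hj D D rfl u c⁻¹ hc'
    have hdet : P₀.det ≠ 0 := by
      intro h0
      have h2 : (P₀.map j) * (b⁻¹ • (D.B' * Ui * D.B)) = 1 := by
        rw [hP₀, Matrix.smul_mul, Matrix.mul_smul, smul_smul, mul_inv_cancel₀ hb0, one_smul]
        calc D.B' * U * D.B * (D.B' * Ui * D.B)
            = D.B' * (U * ((D.B * D.B') * Ui)) * D.B := by simp only [Matrix.mul_assoc]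
          _ = 1 := by rw [D.hBB', Matrix.one_mul, hUUi, Matrix.mul_one, D.hB'B]
      have h3 := congrArg Matrix.det h2
      have h4 := (RingHom.map_det j P₀).symm
      rw [RingHom.mapMatrix_apply] at h4
      rw [Matrix.det_mul, h4, h0, map_zero, zero_mul, Matrix.det_one] at h3
      exact zero_ne_one h3
    set A₀ : GL (Fin n) F₀ := Matrix.GeneralLinearGroup.mkOfDetNeZero P₀ hdet with hA₀
    have hA₀c : (A₀ : Matrix (Fin n) (Fin n) F₀) = P₀ := rfl
    have hA₀m : A₀ ∈ Cfsg.Geo.similarityGroup (bf D.M₀) := by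
      rw [mem_sim_bf_iff]
      exact ⟨Units.mk0 c₀ hc₀0, by rw [hA₀c, hPM, Units.val_mk0]⟩
    refine ⟨⟨A₀, hA₀m⟩, ?_⟩
    rw [simHom_apply]
    apply simFun_eq hn hjq D ⟨A₀, hA₀m⟩ u b⁻¹ (inv_ne_zero hb0)
    show U = b⁻¹ • (D.B * ((A₀ : Matrix (Fin n) (Fin n) F₀)).map j * D.B')
    rw [hA₀c, hP₀]
    calc U = (D.B * D.B') * U * (D.B * D.B') := by rw [D.hBB', Matrix.one_mul, Matrix.mul_one]
      _ = b⁻¹ • (D.B * b • (D.B' * U * D.B) * D.B') := by
          simp only [Matrix.mul_smul, Matrix.smul_mul, smul_smul, Matrix.mul_assoc]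
          rw [inv_mul_cancel₀ hb0, one_smul]
  · rintro ⟨A₀, rfl⟩
    obtain ⟨μ, hμ, hu, hcent⟩ := Classical.choose_spec (exists_gu_of_sim hn hjq D A₀.1 A₀.2)
    exact ⟨psuDiag_mem_inndiagPSU _, hcent⟩

theorem ker_simHom (hn : 3 ≤ n) (hjq : ∀ a : F₀, j a ^ q = j a) (D : Desc hF j g) :
    (simHom hn hjq D).ker =
      (Cfsg.Geo.scalars (Fin n) F₀).subgroupOf (Cfsg.Geo.similarityGroup (bf D.M₀)) := by
  ext A
  obtain ⟨μ, hμ, hu, -⟩ := Classical.choose_spec (exists_gu_of_sim hn hjq D A.1 A.2)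
  set u := Classical.choose (exists_gu_of_sim hn hjq D A.1 A.2) with hudef
  have h1 : simHom hn hjq D A = psuDiag u := rfl
  rw [MonoidHom.mem_ker, h1, psuDiag_eq_one_iff hF hn, Subgroup.mem_subgroupOf,
    Cfsg.Geo.mem_scalars_iff, hu]
  set A' : Matrix (Fin n) (Fin n) F₀ := ((A : GL (Fin n) F₀) : Matrix (Fin n) (Fin n) F₀) with hA'
  have h0n : 0 < n := by omega
  constructor
  · rintro ⟨c', hc'⟩
    have hc : A'.map j = (μ⁻¹ * c') • (1 : Matrix (Fin n) (Fin n) F) := by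
      have h2 : D.B * A'.map j * D.B' = (μ⁻¹ * c') • (1 : Matrix (Fin n) (Fin n) F) := by
        rw [← smul_smul, ← hc', smul_smul, inv_mul_cancel₀ hμ, one_smul]
      calc A'.map j = (D.B' * D.B) * A'.map j * (D.B' * D.B) := by
            rw [D.hB'B, Matrix.one_mul, Matrix.mul_one]
        _ = D.B' * (D.B * A'.map j * D.B') * D.B := by simp only [Matrix.mul_assoc]
        _ = _ := by rw [h2, Matrix.mul_smul, Matrix.smul_mul, Matrix.mul_one, D.hB'B]
    set c := μ⁻¹ * c' with hcdef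
    have hdiag : ∀ k, j (A' k k) = c := by
      intro k
      have := congrFun (congrFun hc k) k
      simpa using this
    have hoff : ∀ k l, k ≠ l → A' k l = 0 := by
      intro k l hkl
      have := congrFun (congrFun hc k) l
      rw [Matrix.map_apply, Matrix.smul_apply, Matrix.one_apply_ne hkl, smul_zero] at this
      exact (map_eq_zero j).mp this
    set k₀ : Fin n := ⟨0, h0n⟩
    have hc0 : A' k₀ k₀ ≠ 0 := by
      intro h0
      have h1 := hdiag k₀
      rw [h0, map_zero] at h1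
      have h2 : A'.map j = 0 := by rw [hc, ← h1, zero_smul]
      have h3 : A' = 0 := by
        ext k l
        have := congrFun (congrFun h2 k) l
        rw [Matrix.map_apply, Matrix.zero_apply] at this
        exact (map_eq_zero j).mp this
      exact gu_coe_ne_zero (by omega) (A : GL (Fin n) F₀) h3
    refine ⟨Units.mk0 (A' k₀ k₀) hc0, ?_⟩
    rw [Units.val_mk0]
    ext k l
    by_cases hkl : k = l
    · subst hkl
      rw [Matrix.smul_apply, Matrix.one_apply_eq, smul_eq_mul, mul_one]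
      apply j.injective
      rw [hdiag, hdiag]
    · rw [Matrix.smul_apply, Matrix.one_apply_ne hkl, smul_zero]
      exact hoff k l hkl
  · rintro ⟨c, hc⟩
    refine ⟨μ * j (c : F₀), ?_⟩
    rw [hc, ← smul_smul]
    congr 1
    have : ((c : F₀) • (1 : Matrix (Fin n) (Fin n) F₀)).map j =
        j (c : F₀) • (1 : Matrix (Fin n) (Fin n) F) := by
      rw [map_smul_hom, Matrix.map_one _ (map_zero _) (map_one _)]
    rw [this, Matrix.mul_smul, Matrix.smul_mul, Matrix.mul_one, D.hBB']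

/-- `C_{Inndiag}(xg g) ≃* projQuot (similarityGroup (bf M₀))` -/
theorem nonempty_centralizer_equiv_sim (hn : 3 ≤ n) (hj : ∀ a : F, a ^ q = a ↔ ∃ b, j b = a)
    (D : Desc hF j g) :
    Nonempty (↥(Cfsg.inndiagPSU n F q ⊓ Subgroup.centralizer {xg hF g}) ≃*
      Cfsg.projQuot (Cfsg.Geo.similarityGroup (bf D.M₀))) := by
  have hjq : ∀ a : F₀, j a ^ q = j a := fun a => (hj (j a)).mpr ⟨a, rfl⟩
  have h1 : Cfsg.inndiagPSU n F q ⊓ Subgroup.centralizer {xg hF g} =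
      (simHom hn hjq D).range := by
    ext β
    rw [mem_inndiag_centralizer_xg_iff hn hj hjq D]
    rfl
  exact ⟨(MulEquiv.subgroupCongr h1).trans
    ((QuotientGroup.quotientKerEquivRange (simHom hn hjq D)).symm.trans
      (QuotientGroup.quotientMulEquivOfEq (ker_simHom hn hjq D)))⟩

/-- similar descended forms give conjugate automorphisms -/
theorem isConjUnder_of_sim (hn : 3 ≤ n) (hj : ∀ a : F, a ^ q = a ↔ ∃ b, j b = a)
    {g' : ↥(Cfsg.GU n F q)} (D : Desc hF j g) (E : Desc hF j g') (hθ : D.θ = E.θ)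
    (P₀ : Matrix (Fin n) (Fin n) F₀) (c₀ : F₀) (hc₀ : c₀ ≠ 0)
    (hP : P₀ᵀ * E.M₀ * P₀ = c₀ • D.M₀) :
    Cfsg.IsConjUnder (Cfsg.inndiagPSU n F q) (xg hF g) (xg hF g') := by
  have hjq : ∀ a : F₀, j a ^ q = j a := fun a => (hj (j a)).mpr ⟨a, rfl⟩
  have hd : (j (c₀⁻¹)) ^ q = j (c₀⁻¹) := hjq _
  obtain ⟨μ, hμ⟩ := exists_norm_eq hF hd
  have hμ1 : μ * μ ^ q * j c₀ = 1 := by
    rw [hμ, ← map_mul, inv_mul_cancel₀ hc₀, map_one]
  obtain ⟨hunit, κ, hκ0, hκ⟩ := twist (by omega) hjq D E hθ P₀ c₀ hP μ hμ1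
  rw [isConjUnder_xg_iff hF hn]
  refine ⟨guMk hF _ hunit, κ⁻¹, ?_⟩
  rw [guMk_coe, hκ, smul_smul, inv_mul_cancel₀ hκ0, one_smul]

end Cfsg.Agent.Lib.Helper45.PSUGraph
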