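import Mathlib
import Cfsg.Agent.Lib.Helper45.PSUGraph.SimCent
import Cfsg.Agent.Lib.Helper45.PSUGraph.CharTwo

/-!
# Existence of descent data for (skew-)symmetric unitary matrices
-/

set_option autoImplicit false
set_option linter.unusedSectionVars false

namespace Cfsg.Agent.Lib.Helper45.PSUGraph

open scoped MatrixGroups Matrix
open Matrix Cfsg.Agent.Lib.Helper43 Cfsg.Agent.Lib.Helper5 Cfsg.Agent.Lib.Helper45.PSLField
  Cfsg.Agent.Lib.Helper44.GraphInv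

variable {n : ℕ} {F : Type*} [Field F] [Fintype F] {q : ℕ} {F₀ : Type*} [Field F₀]

/-- an involutory `xg g` has `g` symmetric or antisymmetric -/
theorem transpose_eq_of_orderOf_xg (hF : Fintype.card F = q ^ 2) (hn : 3 ≤ n)
    (g : ↥(Cfsg.GU n F q)) (h : orderOf (xg hF g) = 2) :
    ((g : GL (Fin n) F) : Matrix (Fin n) (Fin n) F)ᵀ = ((g : GL (Fin n) F) : Matrix (Fin n) (Fin n) F) ∨
    ((g : GL (Fin n) F) : Matrix (Fin n) (Fin n) F)ᵀ = -((g : GL (Fin n) F) : Matrix (Fin n) (Fin n) F) := by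
  obtain ⟨c, hc⟩ := (orderOf_xg_eq_two_iff hF hn g).mp h
  have h1 : ((g : GL (Fin n) F) : Matrix (Fin n) (Fin n) F)ᵀ =
      c • ((g : GL (Fin n) F) : Matrix (Fin n) (Fin n) F) := by
    conv_lhs => rw [hc]
    rw [Matrix.transpose_smul, Matrix.transpose_transpose]
  have h2 : ((g : GL (Fin n) F) : Matrix (Fin n) (Fin n) F) =
      (c * c) • ((g : GL (Fin n) F) : Matrix (Fin n) (Fin n) F) := by
    conv_lhs => rw [hc, h1]
    rw [smul_smul]
  have h3 : c * c = 1 := by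
    by_contra hne
    have h4 : ((c * c) - 1) • ((g : GL (Fin n) F) : Matrix (Fin n) (Fin n) F) = 0 := by
      rw [sub_smul, one_smul, ← h2, sub_self]
    rcases smul_eq_zero.mp h4 with h5 | h5
    · exact hne (sub_eq_zero.mp h5)
    · exact gu_coe_ne_zero (by omega) _ h5
  rcases mul_self_eq_one_iff.mp h3 with rfl | rfl
  · left; rw [h1, one_smul]
  · right; rw [h1, neg_one_smul]

/-- Descent data exist for a unitary `g` with `gᵀ = ε g`. -/
theorem exists_desc (hF : Fintype.card F = q ^ 2) (hn : 1 ≤ n) (j : F₀ →+* F)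
    (hj : ∀ a : F, a ^ q = a ↔ ∃ b, j b = a) (g : ↥(Cfsg.GU n F q)) (ε : F) (hε2 : ε * ε = 1)
    (hg : ((g : GL (Fin n) F) : Matrix (Fin n) (Fin n) F)ᵀ =
      ε • ((g : GL (Fin n) F) : Matrix (Fin n) (Fin n) F))
    (lam θ : F) (hlam : lam * lam ^ q * ε = 1) (hθ0 : θ ≠ 0) (hθ : θ ^ q * ε = θ) :
    ∃ D : Desc hF j g, D.lam = lam ∧ D.θ = θ ∧ (D.M₀.map j)ᵀ = ε • D.M₀.map j ∧
      D.M₀.det ≠ 0 := by
  set G := ((g : GL (Fin n) F) : Matrix (Fin n) (Fin n) F) with hG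
  set Gi := ((((g : GL (Fin n) F)⁻¹ : GL (Fin n) F)) : Matrix (Fin n) (Fin n) F) with hGi
  have hGiG : Gi * G = 1 := by rw [hGi, hG, ← Units.val_mul, inv_mul_cancel, Units.val_one]
  have hGGi : G * Gi = 1 := mul_eq_one_comm.mp hGiG
  have hGmap : G.map (qAut hF) = Giᵀ := gu_map_coe hF g
  have hlam0 : lam ≠ 0 := by
    rintro rfl
    rw [zero_mul, zero_mul] at hlam
    exact zero_ne_one hlam
  -- Giᵀ = ε Gi
  have hGiT : Giᵀ = ε • Gi := by
    have h1 : Gᵀ * Giᵀ = 1 := by rw [← Matrix.transpose_mul, hGiG, Matrix.transpose_one]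
    rw [hg, Matrix.smul_mul, ← Matrix.mul_smul] at h1
    have h2 : Gi = ε • Giᵀ := by
      calc Gi = Gi * (G * ε • Giᵀ) := by rw [h1, Matrix.mul_one]
        _ = (Gi * G) * ε • Giᵀ := by rw [Matrix.mul_assoc]
        _ = _ := by rw [hGiG, Matrix.one_mul]
    conv_rhs => rw [h2]
    rw [smul_smul, hε2, one_smul]
  set Gt := lam • G with hGt
  set Gti := lam⁻¹ • Gi with hGti
  have hGtiGt : Gti * Gt = 1 := by
    rw [hGti, hGt, Matrix.smul_mul, Matrix.mul_smul, smul_smul, inv_mul_cancel₀ hlam0, one_smul,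
      hGiG]
  have hGtmap : Gt.map (qAut hF) = (lam ^ q * ε) • Gi := by
    rw [hGt, map_smul', hGmap, hGiT, smul_smul, qAut_apply]
  have hcoc : cocyc (qAut hF) Gt 2 = 1 := by
    rw [cocyc_succ, cocyc_succ, cocyc_zero]
    have : ((1 : Matrix (Fin n) (Fin n) F)).map (qAut hF) = 1 :=
      Matrix.map_one _ (map_zero _) (map_one _)
    rw [this, Matrix.mul_one, hGtmap, hGt, Matrix.smul_mul, Matrix.mul_smul, smul_smul, hGGi,
      ← mul_assoc, hlam, one_smul]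
  obtain ⟨B, hB, hgB⟩ := hilbert90_matrix (qAut hF) (by norm_num) (orderOf_qAut hF) _ hcoc
  obtain ⟨⟨B1, B2, h12, h21⟩, rfl⟩ := hB
  obtain ⟨hB1, hB2⟩ := map_of_h90' hF Gt Gti B1 B2 hGtiGt h12 hgB
  set Hm := mstar (qAut hF) B1 * B1 with hHm
  have hGtiT : Gtiᵀ = ε • Gti := by
    rw [hGti, Matrix.transpose_smul, hGiT, smul_comm]
  have hmB : mstar (qAut hF) B1 = ε • (B1ᵀ * Gti) := by
    unfold mstar
    rw [hB1, Matrix.transpose_mul, hGtiT, Matrix.mul_smul]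
  have hHmT : Hmᵀ = ε • Hm := by
    rw [hHm, hmB, Matrix.smul_mul, Matrix.transpose_smul, Matrix.transpose_mul,
      Matrix.transpose_mul, Matrix.transpose_transpose, hGtiT, Matrix.smul_mul, Matrix.mul_smul,
      Matrix.mul_assoc]
  have hHerm : mstar (qAut hF) Hm = Hm := by
    rw [hHm, mstar_mul, mstar_mstar _ (qAut_qAut hF)]
  have hHmmap : Hm.map (qAut hF) = ε • Hm := by
    have h1 : Hm.map (qAut hF) = (mstar (qAut hF) Hm)ᵀ := by
      unfold mstar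
      rw [Matrix.transpose_transpose]
    rw [h1, hHerm, hHmT]
  have hfix : (θ • Hm).map (qAut hF) = θ • Hm := by
    rw [map_smul', hHmmap, smul_smul, qAut_apply, hθ]
  obtain ⟨M₀, hM₀⟩ := exists_map_of_fixed hF j hj (θ • Hm) hfix
  refine ⟨⟨lam, B1, B2, h12, hgB, θ, hθ0, M₀, hM₀.symm⟩, rfl, rfl, ?_, ?_⟩
  · show (M₀.map j)ᵀ = ε • M₀.map j
    rw [hM₀, Matrix.transpose_smul, hHmT, smul_comm]
  · show M₀.det ≠ 0
    intro h0
    have h1 : mstar (qAut hF) B2 * Hm * B2 = 1 := by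
      rw [hHm, ← Matrix.mul_assoc, ← mstar_mul, h12, mstar_one, Matrix.one_mul, h12]
    have h2 : Hm.det ≠ 0 := by
      intro h3
      have := congrArg Matrix.det h1
      rw [Matrix.det_mul, Matrix.det_mul, h3, mul_zero, zero_mul, Matrix.det_one] at this
      exact zero_ne_one this
    have h4 : (M₀.map j).det = 0 := by
      have := (RingHom.map_det j M₀).symm
      rw [RingHom.mapMatrix_apply] at this
      rw [this, h0, map_zero]
    rw [hM₀, Matrix.det_smul] at h4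
    rcases mul_eq_zero.mp h4 with h5 | h5
    · exact hθ0 (pow_eq_zero_iff (by simp; omega) |>.mp h5)
    · exact h2 h5

/-- descent data for a symmetric unitary matrix -/
theorem exists_desc_symm (hF : Fintype.card F = q ^ 2) (hn : 1 ≤ n) (j : F₀ →+* F)
    (hj : ∀ a : F, a ^ q = a ↔ ∃ b, j b = a) (g : ↥(Cfsg.GU n F q))
    (hg : ((g : GL (Fin n) F) : Matrix (Fin n) (Fin n) F)ᵀ =
      ((g : GL (Fin n) F) : Matrix (Fin n) (Fin n) F)) :
    ∃ D : Desc hF j g, D.lam = 1 ∧ D.θ = 1 ∧ D.M₀ᵀ = D.M₀ ∧ D.M₀.det ≠ 0 := by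
  obtain ⟨D, h1, h2, h3, h4⟩ := exists_desc hF hn j hj g 1 (one_mul 1) (by rw [one_smul, hg]) 1 1
    (by simp) one_ne_zero (by simp)
  refine ⟨D, h1, h2, ?_, h4⟩
  apply map_injective' j
  show D.M₀ᵀ.map j = D.M₀.map j
  rw [Matrix.transpose_map, h3, one_smul]

/-- descent data for an antisymmetric unitary matrix -/
theorem exists_desc_skew (hF : Fintype.card F = q ^ 2) (hn : 1 ≤ n) (j : F₀ →+* F)
    (hj : ∀ a : F, a ^ q = a ↔ ∃ b, j b = a) (g : ↥(Cfsg.GU n F q))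
    (hg : ((g : GL (Fin n) F) : Matrix (Fin n) (Fin n) F)ᵀ =
      -((g : GL (Fin n) F) : Matrix (Fin n) (Fin n) F))
    (lam θ : F) (hlam : lam * lam ^ q = -1) (hθ0 : θ ≠ 0) (hθ : θ ^ q = -θ) :
    ∃ D : Desc hF j g, D.lam = lam ∧ D.θ = θ ∧ D.M₀ᵀ = -D.M₀ ∧ D.M₀.det ≠ 0 := by
  obtain ⟨D, h1, h2, h3, h4⟩ := exists_desc hF hn j hj g (-1) (by ring)
    (by rw [neg_one_smul, hg]) lam θ (by rw [hlam]; ring) hθ0 (by rw [hθ]; ring)
  refine ⟨D, h1, h2, ?_, h4⟩
  apply map_injective' j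
  show D.M₀ᵀ.map j = (-D.M₀).map j
  rw [Matrix.transpose_map, h3, neg_one_smul]
  ext i k
  simp

/-- for odd `q` there are `λ` of norm `-1` and `θ ≠ 0` with `θ^q = -θ` -/
theorem exists_lam_theta (hF : Fintype.card F = q ^ 2) (hodd : Odd q) :
    ∃ lam θ : F, lam * lam ^ q = -1 ∧ θ ≠ 0 ∧ θ ^ q = -θ := by
  have hd : ((-1 : F)) ^ q = -1 := hodd.neg_one_pow
  obtain ⟨lam, hlam⟩ := exists_norm_eq hF hd
  -- an element not fixed by the `q`-power map
  have hne : ∃ a : F, a ^ q ≠ a := by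
    by_contra hall
    push Not at hall
    apply qAut_ne_one hF
    ext a
    rw [qAut_apply, hall]
    rfl
  obtain ⟨a, ha⟩ := hne
  refine ⟨lam, a - a ^ q, hlam, sub_ne_zero.mpr (Ne.symm ha), ?_⟩
  have h1 : (a - a ^ q) ^ q = a ^ q - (a ^ q) ^ q := by
    have := map_sub (qAut hF) a (a ^ q)
    simp only [qAut_apply] at this
    exact this
  rw [h1, pow_q_pow_q hF]
  ring

end Cfsg.Agent.Lib.Helper45.PSUGraph
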