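import Mathlib
import Cfsg.Agent.Lib.Helper44.GraphInv6
import Cfsg.Agent.Lib.Helper45.SpInv.Congr

/-!
# Symmetric bilinear forms over a finite field: similarity classes in odd dimension

Pure form-level lemmas (over one finite field `K`) used for the involutory graph automorphisms
of the unitary groups.
-/

set_option autoImplicit false
set_option linter.unusedSectionVars false

namespace Cfsg.Agent.Lib.Helper45.PSUGraph

open scoped MatrixGroups Matrix
open Matrix Cfsg.Agent.Lib.Helper43 Cfsg.Agent.Lib.Helper44 Cfsg.Agent.Lib.Helper44.GraphInv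
  Cfsg.Agent.Lib.Helper45.SpInv

variable {n m : ℕ} {K : Type*} [Field K]

theorem sim_bf_smul (c : K) (hc : c ≠ 0) (M : Matrix (Fin n) (Fin n) K) :
    Cfsg.Geo.similarityGroup (bf (c • M)) = Cfsg.Geo.similarityGroup (bf M) := by
  ext h
  rw [mem_sim_bf_iff, mem_sim_bf_iff]
  constructor
  · rintro ⟨d, hd⟩
    refine ⟨d, ?_⟩
    rw [Matrix.mul_smul, Matrix.smul_mul, smul_comm (d : K) c] at hd
    exact smul_right_injective _ hc hd
  · rintro ⟨d, hd⟩
    refine ⟨d, ?_⟩
    rw [Matrix.mul_smul, Matrix.smul_mul, hd, smul_comm]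

theorem det_ne_zero_of_congr (M N P : Matrix (Fin n) (Fin n) K) (c : K) (hc : c ≠ 0)
    (hMd : M.det ≠ 0) (hP : Pᵀ * N * P = c • M) : P.det ≠ 0 := by
  intro h0
  have := congrArg Matrix.det hP
  rw [Matrix.det_mul, Matrix.det_mul, h0, mul_zero, Matrix.det_smul] at this
  exact mul_ne_zero (pow_ne_zero _ hc) hMd this.symm

/-- similar matrices have isomorphic projective similarity groups -/
theorem projQuot_sim_of_congr (M N P : Matrix (Fin n) (Fin n) K) (c : K) (hc : c ≠ 0)
    (hMd : M.det ≠ 0) (hP : Pᵀ * N * P = c • M) :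
    Nonempty (Cfsg.projQuot (Cfsg.Geo.similarityGroup (bf M)) ≃*
      Cfsg.projQuot (Cfsg.Geo.similarityGroup (bf N))) := by
  have hPdet := det_ne_zero_of_congr M N P c hc hMd hP
  have hPi : P * P⁻¹ = 1 := Matrix.mul_nonsing_inv P (isUnit_iff_ne_zero.mpr hPdet)
  have hPi' : P⁻¹ * P = 1 := Matrix.nonsing_inv_mul P (isUnit_iff_ne_zero.mpr hPdet)
  obtain ⟨e⟩ := projQuot_sim_congr (bf N) (bf (c • M)) P P⁻¹ hPi hPi'
    (fun u v => by rw [bf_mulVec, hP])
  rw [sim_bf_smul c hc] at e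
  exact ⟨e⟩

/-- in odd dimension over a finite field any two invertible symmetric matrices are similar -/
theorem exists_sim_of_odd [Fintype K] (hn : Odd n) (M N : Matrix (Fin n) (Fin n) K)
    (hM : Mᵀ = M) (hN : Nᵀ = N) (hMd : M.det ≠ 0) (hNd : N.det ≠ 0) :
    ∃ (P : Matrix (Fin n) (Fin n) K) (c : K), c ≠ 0 ∧ Pᵀ * N * P = c • M := by
  classical
  by_cases h2 : (2 : K) = 0
  · -- characteristic two
    have : CharP K 2 := CharTwo.of_one_ne_zero_of_two_eq_zero one_ne_zero h2
    have hcard : Odd (Fintype.card (Fin n)) := by rw [Fintype.card_fin]; exact hn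
    have hNi : N * N⁻¹ = 1 := Matrix.mul_nonsing_inv N (isUnit_iff_ne_zero.mpr hNd)
    have hMi : M * M⁻¹ = 1 := Matrix.mul_nonsing_inv M (isUnit_iff_ne_zero.mpr hMd)
    obtain ⟨i, hi⟩ := exists_diag_ne_zero_of_odd hN hNi hcard
    obtain ⟨k, hk⟩ := exists_diag_ne_zero_of_odd hM hMi hcard
    obtain ⟨A, hA⟩ := exists_congr_of_type hN hM hNi hMi
      (iff_of_false (fun h => hi (h i)) (fun h => hk (h k)))
    refine ⟨Aᵀ, 1, one_ne_zero, ?_⟩
    rw [Matrix.transpose_transpose, hA, one_smul]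
  · -- odd characteristic
    have hchar : ringChar K ≠ 2 := by
      intro h
      apply h2
      have : ((2 : ℕ) : K) = 0 := by
        rw [← h]
        exact ringChar.Nat.cast_ringChar
      exact_mod_cast this
    obtain ⟨ν, hν⟩ := FiniteField.exists_nonsquare hchar
    have hν0 : ν ≠ 0 := by
      rintro rfl
      exact hν ⟨0, by simp⟩
    set gM : GL (Fin n) K := Matrix.GeneralLinearGroup.mkOfDetNeZero M hMd with hgM
    set gN : GL (Fin n) K := Matrix.GeneralLinearGroup.mkOfDetNeZero N hNd with hgN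
    have hgMc : (gM : Matrix (Fin n) (Fin n) K) = M := rfl
    have hgNc : (gN : Matrix (Fin n) (Fin n) K) = N := rfl
    have hQM : (QuadraticMap.polarBilin (symQ M)).Nondegenerate := symQ_nondeg h2 gM hM
    have hQN : (QuadraticMap.polarBilin (symQ N)).Nondegenerate := symQ_nondeg h2 gN hN
    have d₀ := (nondeg_iff_gramStd_det_ne_zero (symQ N)).mp hQN
    have h₁ := smul_nondeg ν hν0 (symQ N) hQN
    have hns : ¬ IsSquare ((gramStd ⇑(symQ N)).det * (gramStd ⇑(ν • symQ N)).det) := by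
      rw [gramStd_smul, Matrix.det_smul, Fintype.card_fin]
      rintro ⟨s, hs⟩
      obtain ⟨k, hk⟩ := hn
      apply hν
      refine ⟨s / ((gramStd ⇑(symQ N)).det * ν ^ k), ?_⟩
      have hνk : ν ^ k ≠ 0 := pow_ne_zero _ hν0
      field_simp
      have : ν ^ n = ν * ν ^ k * ν ^ k := by
        rw [hk]
        ring
      rw [this] at hs
      linear_combination hs
    rcases two_classes h2 (symQ N) (ν • symQ N) (symQ M) hQN h₁ hQM hns with ⟨L, hL⟩ | ⟨L, hL⟩
    · refine ⟨(glOfEquiv L : GL (Fin n) K), 1, one_ne_zero, ?_⟩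
      apply congr_of_map N M L 1
      intro u v
      have h3 := Cfsg.Agent.S2623.polar_isometry (symQ M) (symQ N)
        (L : (Fin n → K) →ₗ[K] (Fin n → K)) hL u v
      rw [polar_symQ h2 _ hM] at h3
      have h4 := polar_symQ h2 N hN (L u) (L v)
      rw [one_mul, ← h3, ← h4]
      rfl
    · refine ⟨(glOfEquiv L : GL (Fin n) K), ν⁻¹, inv_ne_zero hν0, ?_⟩
      apply congr_of_map N M L ν⁻¹
      intro u v
      have h3 := Cfsg.Agent.S2623.polar_isometry (symQ M) (ν • symQ N)
        (L : (Fin n → K) →ₗ[K] (Fin n → K)) hL u v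
      rw [polar_symQ h2 _ hM] at h3
      have h4 : QuadraticMap.polar ⇑(ν • symQ N) (L u) (L v) =
          ν * QuadraticMap.polar ⇑(symQ N) (L u) (L v) := by
        show QuadraticMap.polar (ν • ⇑(symQ N)) _ _ = _
        rw [QuadraticMap.polar_smul, smul_eq_mul]
      have h5 := polar_symQ h2 N hN (L u) (L v)
      rw [← h3]
      show bf N (L u) (L v) = ν⁻¹ * QuadraticMap.polar ⇑(ν • symQ N) (L u) (L v)
      rw [h4, h5, ← mul_assoc, inv_mul_cancel₀ hν0, one_mul]

/-- in odd dimension the projective similarity group of an invertible symmetric matrix is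
`PGO` of the standard form -/
theorem projQuot_sim_odd_equiv [Fintype K] (hnm : n = 2 * m + 1) (M : Matrix (Fin n) (Fin n) K)
    (hM : Mᵀ = M) (hMd : M.det ≠ 0) :
    Nonempty (Cfsg.projQuot (Cfsg.Geo.similarityGroup (bf M)) ≃*
      Cfsg.PGO K (Cfsg.quadFormOdd m K)) := by
  classical
  have hodd : Odd n := ⟨m, hnm⟩
  by_cases h2 : (2 : K) = 0
  · have : CharP K 2 := CharTwo.of_one_ne_zero_of_two_eq_zero one_ne_zero h2
    obtain ⟨P, c, hc, hP⟩ := exists_sim_of_odd hodd M 1 hM Matrix.transpose_one hMd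
      (by rw [Matrix.det_one]; exact one_ne_zero)
    obtain ⟨e₁⟩ := projQuot_sim_of_congr M 1 P c hc hMd hP
    obtain ⟨e₂⟩ := projQuot_dot_equiv (F := K) hnm
    exact ⟨e₁.trans e₂⟩
  · have e : Unit ⊕ (Fin m ⊕ Fin m) ≃ Fin n :=
      Fintype.equivFinOfCardEq (by
        simp only [Fintype.card_sum, Fintype.card_fin, Fintype.card_unit]
        omega)
    set Q₀ : QuadraticForm K (Fin n → K) := reQ e (oddQF m K) with hQ₀
    have h₀ : (QuadraticMap.polarBilin Q₀).Nondegenerate :=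
      reQ_nondeg e _ (oddQF_nondeg (m := m) (F := K) h2)
    obtain ⟨P, c, hc, hP⟩ := exists_sim_of_odd hodd M (gramStd ⇑Q₀) hM (gramStd_transpose Q₀) hMd
      ((nondeg_iff_gramStd_det_ne_zero Q₀).mp h₀)
    obtain ⟨e₁⟩ := projQuot_sim_of_congr M (gramStd ⇑Q₀) P c hc hMd hP
    have h1 : bf (gramStd ⇑Q₀) = QuadraticMap.polar ⇑Q₀ := by
      funext u v
      rw [bf_gramStd]
    rw [h1, sim_polar_eq_quadSim h2] at e₁
    obtain ⟨e₂⟩ := pgo_reQ_equiv e (oddQF m K)
    rw [oddQF_coe] at e₂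
    exact ⟨e₁.trans e₂⟩

end Cfsg.Agent.Lib.Helper45.PSUGraph
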