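import Mathlib
import Cfsg.Agent.Lib.Helper45.PSUGraph.Desc
import Cfsg.Agent.Lib.Helper45.PSUGraph.Forms

/-!
# Representatives: every symmetric form over `F₀` (`q` odd) descends from a symmetric unitary matrix
-/

set_option autoImplicit false
set_option linter.unusedSectionVars false

namespace Cfsg.Agent.Lib.Helper45.PSUGraph

open scoped MatrixGroups Matrix
open Matrix Cfsg.Agent.Lib.Helper43 Cfsg.Agent.Lib.Helper5 Cfsg.Agent.Lib.Helper45.PSLField
  Cfsg.Agent.Lib.Helper44 Cfsg.Agent.Lib.Helper44.GraphInv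

variable {n : ℕ} {F : Type*} [Field F] [Fintype F] {q : ℕ} {F₀ : Type*} [Field F₀]
variable {hF : Fintype.card F = q ^ 2} {j : F₀ →+* F} {g : ↥(Cfsg.GU n F q)}

/-- change of coordinates over the fixed field in descent data -/
def Desc.conj (hjq : ∀ a : F₀, j a ^ q = j a) (D : Desc hF j g) (P P' : Matrix (Fin n) (Fin n) F₀)
    (hPP' : P * P' = 1) : Desc hF j g where
  lam := D.lam
  B := D.B * P.map j
  B' := P'.map j * D.B'
  hBB' := by
    have h1 : P.map j * P'.map j = 1 := by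
      rw [← Matrix.map_mul, hPP']
      exact Matrix.map_one _ (map_zero _) (map_one _)
    calc D.B * P.map j * (P'.map j * D.B') = D.B * ((P.map j * P'.map j) * D.B') := by
          simp only [Matrix.mul_assoc]
      _ = 1 := by rw [h1, Matrix.one_mul, D.hBB']
  hgB := by
    have h1 : (P.map j).map (qAut hF) = P.map j := by
      ext i k
      rw [Matrix.map_apply, Matrix.map_apply, qAut_apply, hjq]
    rw [Matrix.map_mul, h1, ← Matrix.mul_assoc, D.hgB]
  θ := D.θ
  hθ := D.hθ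
  M₀ := Pᵀ * D.M₀ * P
  hM := by
    rw [mstar_mul, mstar_map_fixed hF j hjq, Matrix.map_mul, Matrix.map_mul, ← D.hM]
    simp only [Matrix.mul_smul, Matrix.smul_mul, Matrix.mul_assoc]

theorem Desc.conj_M₀ (hjq : ∀ a : F₀, j a ^ q = j a) (D : Desc hF j g)
    (P P' : Matrix (Fin n) (Fin n) F₀) (hPP' : P * P' = 1) :
    (D.conj hjq P P' hPP').M₀ = Pᵀ * D.M₀ * P := rfl

theorem Desc.conj_lam (hjq : ∀ a : F₀, j a ^ q = j a) (D : Desc hF j g)
    (P P' : Matrix (Fin n) (Fin n) F₀) (hPP' : P * P' = 1) :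
    (D.conj hjq P P' hPP').lam = D.lam := rfl

theorem Desc.conj_θ (hjq : ∀ a : F₀, j a ^ q = j a) (D : Desc hF j g)
    (P P' : Matrix (Fin n) (Fin n) F₀) (hPP' : P * P' = 1) :
    (D.conj hjq P P' hPP').θ = D.θ := rfl

/-- the trivial descent data of the identity -/
def descOne (hF : Fintype.card F = q ^ 2) (j : F₀ →+* F) :
    Desc hF j (1 : ↥(Cfsg.GU n F q)) where
  lam := 1
  B := 1
  B' := 1
  hBB' := Matrix.one_mul 1
  hgB := by
    rw [one_smul, Matrix.map_one _ (map_zero _) (map_one _), Matrix.mul_one]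
    rfl
  θ := 1
  hθ := one_ne_zero
  M₀ := 1
  hM := by
    rw [one_smul, mstar_one, Matrix.mul_one, Matrix.map_one _ (map_zero _) (map_one _)]

section Diag

variable (i₀ : Fin n)

/-- the vector `(x, 1, …, 1)` (with `x` at position `i₀`) -/
def upd {R : Type*} [One R] (x : R) : Fin n → R := Function.update (fun _ => (1 : R)) i₀ x

theorem upd_mul {R : Type*} [Monoid R] (x y : R) :
    (fun i => upd i₀ x i * upd i₀ y i) = upd i₀ (x * y) := by
  funext i
  unfold upd
  by_cases h : i = i₀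
  · subst h; simp
  · simp [Function.update_of_ne h]

theorem upd_map {R S : Type*} [MonoidWithZero R] [MonoidWithZero S] (f : R →*₀ S) (x : R) :
    (fun i => f (upd i₀ x i)) = upd i₀ (f x) := by
  funext i
  unfold upd
  by_cases h : i = i₀
  · subst h; simp
  · simp [Function.update_of_ne h]

theorem upd_one {R : Type*} [One R] : upd i₀ (1 : R) = fun _ => 1 := by
  funext i
  unfold upd
  by_cases h : i = i₀
  · subst h; simp
  · simp [Function.update_of_ne h]

theorem diagonal_upd_mul (x y : F) :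
    Matrix.diagonal (upd i₀ x) * Matrix.diagonal (upd i₀ y) = Matrix.diagonal (upd i₀ (x * y)) := by
  rw [Matrix.diagonal_mul_diagonal, upd_mul]

theorem diagonal_upd_one {R : Type*} [Semiring R] :
    Matrix.diagonal (upd i₀ (1 : R)) = (1 : Matrix (Fin n) (Fin n) R) := by
  rw [upd_one]
  exact Matrix.diagonal_one

theorem diagonal_upd_map_qAut (x : F) :
    (Matrix.diagonal (upd i₀ x)).map (qAut hF) = Matrix.diagonal (upd i₀ (x ^ q)) := by
  rw [Matrix.diagonal_map (map_zero _)]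
  congr 1
  funext i
  unfold upd
  by_cases h : i = i₀
  · subst h; simp [qAut_apply]
  · simp [Function.update_of_ne h]

theorem diagonal_upd_map_hom (x : F₀) :
    (Matrix.diagonal (upd i₀ x)).map j = Matrix.diagonal (upd i₀ (j x)) := by
  rw [Matrix.diagonal_map (map_zero _)]
  congr 1
  funext i
  unfold upd
  by_cases h : i = i₀
  · subst h; simp
  · simp [Function.update_of_ne h]

theorem mstar_diagonal_upd (x : F) :
    mstar (qAut hF) (Matrix.diagonal (upd i₀ x)) = Matrix.diagonal (upd i₀ (x ^ q)) := by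
  unfold mstar
  rw [diagonal_upd_map_qAut, Matrix.diagonal_transpose]

theorem det_diagonal_upd {R : Type*} [CommRing R] (x : R) :
    (Matrix.diagonal (upd i₀ x)).det = x := by
  rw [Matrix.det_diagonal]
  unfold upd
  rw [Finset.prod_update_of_mem (Finset.mem_univ _)]
  simp

end Diag

/-- the unitary matrix `diag(b / b^q, 1, …, 1)` -/
noncomputable def guDiag (hF : Fintype.card F = q ^ 2) (i₀ : Fin n) (b : F) (hb : b ≠ 0) :
    ↥(Cfsg.GU n F q) :=
  guMk hF (Matrix.diagonal (upd i₀ (b / b ^ q))) (by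
    rw [mstar_diagonal_upd, diagonal_upd_mul, div_pow, pow_q_pow_q hF]
    have hbq : b ^ q ≠ 0 := pow_ne_zero _ hb
    have : b ^ q / b * (b / b ^ q) = 1 := by field_simp
    rw [this, diagonal_upd_one])

theorem guDiag_coe (hF : Fintype.card F = q ^ 2) (i₀ : Fin n) (b : F) (hb : b ≠ 0) :
    (((guDiag hF i₀ b hb : ↥(Cfsg.GU n F q)) : GL (Fin n) F) : Matrix (Fin n) (Fin n) F) =
      Matrix.diagonal (upd i₀ (b / b ^ q)) := rfl

/-- descent data of `diag(b / b^q, 1, …, 1)`, with form `diag(N(b), 1, …, 1)` -/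
noncomputable def descDiag (hF : Fintype.card F = q ^ 2) (j : F₀ →+* F) (i₀ : Fin n) (b : F)
    (hb : b ≠ 0) (ν₀ : F₀) (hν₀ : j ν₀ = b * b ^ q) : Desc hF j (guDiag hF i₀ b hb) where
  lam := 1
  B := Matrix.diagonal (upd i₀ b)
  B' := Matrix.diagonal (upd i₀ b⁻¹)
  hBB' := by rw [diagonal_upd_mul, mul_inv_cancel₀ hb, diagonal_upd_one]
  hgB := by
    rw [one_smul, guDiag_coe, diagonal_upd_map_qAut, diagonal_upd_mul]
    have hbq : b ^ q ≠ 0 := pow_ne_zero _ hb
    have : b / b ^ q * b ^ q = b := by field_simp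
    rw [this]
  θ := 1
  hθ := one_ne_zero
  M₀ := Matrix.diagonal (upd i₀ ν₀)
  hM := by
    rw [one_smul, mstar_diagonal_upd, diagonal_upd_mul, diagonal_upd_map_hom, hν₀, mul_comm]

section Odd

variable [Fintype F₀]

/-- for `q` odd every invertible symmetric matrix over `F₀` is the descended form of a symmetric
unitary matrix -/
theorem exists_gu_desc_eq (hF : Fintype.card F = q ^ 2) (hn : 1 ≤ n) (j : F₀ →+* F)
    (hj : ∀ a : F, a ^ q = a ↔ ∃ b, j b = a) (h2 : (2 : F₀) ≠ 0)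
    (N : Matrix (Fin n) (Fin n) F₀) (hN : Nᵀ = N) (hNd : N.det ≠ 0) :
    ∃ (g : ↥(Cfsg.GU n F q)) (D : Desc hF j g),
      ((g : GL (Fin n) F) : Matrix (Fin n) (Fin n) F)ᵀ =
        ((g : GL (Fin n) F) : Matrix (Fin n) (Fin n) F) ∧
      D.lam = 1 ∧ D.θ = 1 ∧ D.M₀ = N := by
  classical
  have hjq : ∀ a : F₀, j a ^ q = j a := fun a => (hj (j a)).mpr ⟨a, rfl⟩
  have hchar : ringChar F₀ ≠ 2 := by
    intro h
    apply h2
    have : ((2 : ℕ) : F₀) = 0 := by
      rw [← h]
      exact ringChar.Nat.cast_ringChar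
    exact_mod_cast this
  obtain ⟨ν, hν⟩ := FiniteField.exists_nonsquare hchar
  have hν0 : ν ≠ 0 := by
    rintro rfl
    exact hν ⟨0, by simp⟩
  obtain ⟨b, hb⟩ := exists_norm_eq hF (hjq ν)
  have hb0 : b ≠ 0 := by
    rintro rfl
    rw [zero_mul] at hb
    exact (map_ne_zero j).mpr hν0 hb.symm
  set i₀ : Fin n := ⟨0, by omega⟩ with hi₀
  set Ma : Matrix (Fin n) (Fin n) F₀ := 1 with hMa
  set Mb : Matrix (Fin n) (Fin n) F₀ := Matrix.diagonal (upd i₀ ν) with hMb
  have hMaT : Maᵀ = Ma := Matrix.transpose_one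
  have hMbT : Mbᵀ = Mb := Matrix.diagonal_transpose _
  have hMad : Ma.det ≠ 0 := by rw [hMa, Matrix.det_one]; exact one_ne_zero
  have hMbd : Mb.det ≠ 0 := by rw [hMb, det_diagonal_upd]; exact hν0
  set gA : GL (Fin n) F₀ := Matrix.GeneralLinearGroup.mkOfDetNeZero Ma hMad
  set gB : GL (Fin n) F₀ := Matrix.GeneralLinearGroup.mkOfDetNeZero Mb hMbd
  set gN : GL (Fin n) F₀ := Matrix.GeneralLinearGroup.mkOfDetNeZero N hNd
  have hQa : (QuadraticMap.polarBilin (symQ Ma)).Nondegenerate := symQ_nondeg h2 gA hMaT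
  have hQb : (QuadraticMap.polarBilin (symQ Mb)).Nondegenerate := symQ_nondeg h2 gB hMbT
  have hQN : (QuadraticMap.polarBilin (symQ N)).Nondegenerate := symQ_nondeg h2 gN hN
  have hns : ¬ IsSquare ((gramStd ⇑(symQ Ma)).det * (gramStd ⇑(symQ Mb)).det) := by
    rw [gramStd_symQ h2 _ hMaT, gramStd_symQ h2 _ hMbT, hMa, Matrix.det_one, one_mul, hMb,
      det_diagonal_upd]
    exact hν
  -- a linear equivalence carrying `symQ Mx` to `symQ N` gives the congruence
  have key : ∀ (Mx : Matrix (Fin n) (Fin n) F₀), Mxᵀ = Mx →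
      ∀ L : (Fin n → F₀) ≃ₗ[F₀] (Fin n → F₀), (∀ v, symQ Mx (L v) = symQ N v) →
      ((glOfEquiv L : GL (Fin n) F₀) : Matrix (Fin n) (Fin n) F₀)ᵀ * Mx *
        ((glOfEquiv L : GL (Fin n) F₀) : Matrix (Fin n) (Fin n) F₀) = N := by
    intro Mx hMx L hL
    have h1 := congr_of_map Mx N L 1 (by
      intro u v
      have h3 := Cfsg.Agent.S2623.polar_isometry (symQ N) (symQ Mx)
        (L : (Fin n → F₀) →ₗ[F₀] (Fin n → F₀)) hL u v
      rw [polar_symQ h2 _ hN] at h3
      have h4 := polar_symQ h2 Mx hMx (L u) (L v)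
      rw [one_mul, ← h3, ← h4]
      rfl)
    rw [one_smul] at h1
    exact h1
  have hgl : ∀ L : (Fin n → F₀) ≃ₗ[F₀] (Fin n → F₀),
      ((glOfEquiv L : GL (Fin n) F₀) : Matrix (Fin n) (Fin n) F₀) *
        (((glOfEquiv L)⁻¹ : GL (Fin n) F₀) : Matrix (Fin n) (Fin n) F₀) = 1 := by
    intro L
    rw [← Units.val_mul, mul_inv_cancel, Units.val_one]
  rcases two_classes h2 (symQ Ma) (symQ Mb) (symQ N) hQa hQb hQN hns with ⟨L, hL⟩ | ⟨L, hL⟩
  · refine ⟨1, (descOne hF j).conj hjq _ _ (hgl L), ?_, rfl, rfl, ?_⟩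
    · show (1 : Matrix (Fin n) (Fin n) F)ᵀ = 1
      exact Matrix.transpose_one
    · rw [Desc.conj_M₀]
      exact key Ma hMaT L hL
  · refine ⟨guDiag hF i₀ b hb0, (descDiag hF j i₀ b hb0 ν hb.symm).conj hjq _ _ (hgl L), ?_,
      rfl, rfl, ?_⟩
    · rw [guDiag_coe, Matrix.diagonal_transpose]
    · rw [Desc.conj_M₀]
      exact key Mb hMbT L hL

end Odd

end Cfsg.Agent.Lib.Helper45.PSUGraph
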