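import Mathlib
import Cfsg.Agent.Lib.Helper43.PSUSplit
import Cfsg.Agent.Lib.Helper45.PSUGraph.SimCent

/-!
# Splitting of an `Inndiag(PSU_n)`-class into `PSU_n`-classes

The `Inndiag`-class of an automorphism `x` of `PSU_n(q)` is the union of `|U₁ : D|` classes under
`Inn`, where `U₁` is the group of norm-one elements and `D` is generated by the determinants of
the unitary matrices `u` with `psuDiag u` centralising `x` and the `n`-th powers.
-/

set_option autoImplicit false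
set_option linter.unusedSectionVars false

namespace Cfsg.Agent.Lib.Helper45.PSUGraph

open scoped MatrixGroups Matrix
open Matrix Cfsg.Agent.Lib.Helper43 Cfsg.Agent.Lib.Helper5 Cfsg.Agent.Lib.Helper45.PSLField
  Cfsg.Agent.Lib.Helper44.GraphInv Cfsg.Agent.Lib.Helper13

variable {n : ℕ} {F : Type*} [Field F] [Fintype F] {q : ℕ} {F₀ : Type*} [Field F₀]

/-- the determinants of the unitary matrices inducing elements of the centraliser of `x`,
together with the `n`-th powers -/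
noncomputable def detCentU (hF : Fintype.card F = q ^ 2) (x : MulAut (Cfsg.PSU n F q)) :
    Subgroup ↥(U1 F q) :=
  (((Subgroup.centralizer {x}).comap
      (psuDiag : ↥(Cfsg.GU n F q) →* MulAut (Cfsg.PSU n F q))).map (guDet hF)) ⊔
    (powMonoidHom n : ↥(U1 F q) →* ↥(U1 F q)).range

theorem mem_detCentU_iff (hF : Fintype.card F = q ^ 2) (x : MulAut (Cfsg.PSU n F q))
    (w : ↥(U1 F q)) :
    w ∈ detCentU hF x ↔ ∃ (u : ↥(Cfsg.GU n F q)) (z : ↥(U1 F q)),
      (psuDiag u : MulAut (Cfsg.PSU n F q)) ∈ Subgroup.centralizer {x} ∧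
        w = guDet hF u * z ^ n := by
  unfold detCentU
  rw [Subgroup.mem_sup]
  constructor
  · rintro ⟨a, ha, b, hb, rfl⟩
    obtain ⟨u, hu, rfl⟩ := Subgroup.mem_map.mp ha
    obtain ⟨z, rfl⟩ := hb
    exact ⟨u, z, Subgroup.mem_comap.mp hu, rfl⟩
  · rintro ⟨u, z, hu, rfl⟩
    exact ⟨guDet hF u, Subgroup.mem_map.mpr ⟨u, Subgroup.mem_comap.mpr hu, rfl⟩, z ^ n,
      ⟨z, rfl⟩, rfl⟩

theorem isConjUnder_inn_iff_detCentU (hF : Fintype.card F = q ^ 2) (hn : 3 ≤ n)
    (x : MulAut (Cfsg.PSU n F q)) (g₁ g₂ : ↥(Cfsg.GU n F q)) :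
    (guDet hF g₁)⁻¹ * guDet hF g₂ ∈ detCentU hF x ↔
      Cfsg.IsConjUnder (Cfsg.Inn (Cfsg.PSU n F q))
        (psuDiag g₁ * x * (psuDiag g₁)⁻¹) (psuDiag g₂ * x * (psuDiag g₂)⁻¹) := by
  rw [mem_detCentU_iff]
  constructor
  · rintro ⟨u, z, hu, huz⟩
    have hκ : (psuDiag u : MulAut (Cfsg.PSU n F q)) * x = x * psuDiag u := by
      rw [← Subgroup.mem_centralizer_singleton_iff]
      exact hu
    have hinn : (psuDiag (g₂ * u⁻¹ * g₁⁻¹) : MulAut (Cfsg.PSU n F q)) ∈
        Cfsg.Inn (Cfsg.PSU n F q) := by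
      rw [psuDiag_mem_inn_iff hF hn]
      refine ⟨z, ?_⟩
      rw [powMonoidHom_apply, map_mul, map_mul, map_inv, map_inv]
      have : ∀ a b c d : ↥(U1 F q), a⁻¹ * b = c * d → d = b * c⁻¹ * a⁻¹ := by
        intro a b c d h
        have : d = c⁻¹ * (a⁻¹ * b) := by rw [h]; group
        rw [this]
        ac_rfl
      exact this _ _ _ _ huz
    refine ⟨_, hinn, ?_⟩
    rw [map_mul, map_mul, map_inv, map_inv]
    set a := (psuDiag g₁ : MulAut (Cfsg.PSU n F q))
    set b := (psuDiag g₂ : MulAut (Cfsg.PSU n F q))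
    set κ := (psuDiag u : MulAut (Cfsg.PSU n F q))
    have h1 : κ⁻¹ * x * κ = x := by
      rw [mul_assoc, ← hκ, ← mul_assoc, inv_mul_cancel, one_mul]
    calc b * x * b⁻¹ = b * (κ⁻¹ * x * κ) * b⁻¹ := by rw [h1]
      _ = b * κ⁻¹ * a⁻¹ * (a * x * a⁻¹) * (b * κ⁻¹ * a⁻¹)⁻¹ := by group
  · rintro ⟨t, ht, heq⟩
    rw [mem_inn_psu_iff] at ht
    obtain ⟨s, rfl⟩ := ht
    set k : ↥(Cfsg.GU n F q) := g₂⁻¹ * toGU s * g₁ with hk
    have hκ : (psuDiag k : MulAut (Cfsg.PSU n F q)) ∈ Subgroup.centralizer {x} := by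
      rw [Subgroup.mem_centralizer_singleton_iff, hk, map_mul, map_mul, map_inv]
      set a := (psuDiag g₁ : MulAut (Cfsg.PSU n F q))
      set b := (psuDiag g₂ : MulAut (Cfsg.PSU n F q))
      set t := (psuDiag (toGU s) : MulAut (Cfsg.PSU n F q))
      calc b⁻¹ * t * a * x = b⁻¹ * (t * (a * x * a⁻¹) * t⁻¹) * t * a := by group
        _ = b⁻¹ * (b * x * b⁻¹) * t * a := by rw [← heq]
        _ = x * (b⁻¹ * t * a) := by group
    refine ⟨k⁻¹, 1, ?_, ?_⟩
    · rw [map_inv]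
      exact Subgroup.inv_mem _ hκ
    · rw [one_pow, mul_one, map_inv, hk, map_mul, map_mul, map_inv, guDet_toGU, mul_one,
        _root_.mul_inv_rev, inv_inv]

/-- the `Inndiag`-class of `x` is the union of `|U₁ : detCentU x|` classes under `PSU_n` -/
theorem splitClassCount_eq_index_psu (hF : Fintype.card F = q ^ 2) (hn : 3 ≤ n)
    (x : MulAut (Cfsg.PSU n F q)) :
    Cfsg.splitClassCount (Cfsg.inndiagPSU n F q) (Cfsg.Inn (Cfsg.PSU n F q)) x =
      (detCentU hF x).index := by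
  unfold Subgroup.index
  apply splitClassCount_eq_card (Cfsg.inndiagPSU n F q) (Cfsg.Inn (Cfsg.PSU n F q)) x
    (psuDiag : ↥(Cfsg.GU n F q) →* MulAut (Cfsg.PSU n F q)) inndiagPSU_eq_range.symm
    (fun g : ↥(Cfsg.GU n F q) => (QuotientGroup.mk (guDet hF g) : ↥(U1 F q) ⧸ detCentU hF x))
  · intro y
    obtain ⟨c, rfl⟩ := QuotientGroup.mk_surjective y
    obtain ⟨g, rfl⟩ := guDet_surjective hF (show 1 ≤ n by omega) c
    exact ⟨g, rfl⟩
  · intro g₁ g₂
    show (QuotientGroup.mk (guDet hF g₁) : ↥(U1 F q) ⧸ detCentU hF x) =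
      QuotientGroup.mk (guDet hF g₂) ↔ _
    rw [QuotientGroup.eq]
    exact isConjUnder_inn_iff_detCentU hF hn x g₁ g₂

section Desc

variable {hF : Fintype.card F = q ^ 2} {j : F₀ →+* F} {g : ↥(Cfsg.GU n F q)}

theorem det_conj_eq (B B' X : Matrix (Fin n) (Fin n) F) (hBB' : B * B' = 1) :
    (B * X * B').det = X.det := by
  have h1 : B.det * B'.det = 1 := by rw [← Matrix.det_mul, hBB', Matrix.det_one]
  rw [Matrix.det_mul, Matrix.det_mul]
  calc B.det * X.det * B'.det = X.det * (B.det * B'.det) := by ring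
    _ = X.det := by rw [h1, mul_one]

/-- a similitude of the descended form gives a centralising unitary matrix with known
determinant -/
theorem exists_cent_of_sim (hn : 3 ≤ n) (hjq : ∀ a : F₀, j a ^ q = j a) (D : Desc hF j g)
    (P₀ : Matrix (Fin n) (Fin n) F₀) (c₀ : F₀) (hP : P₀ᵀ * D.M₀ * P₀ = c₀ • D.M₀) (μ : F)
    (hμ : μ * μ ^ q * j c₀ = 1) :
    ∃ u : ↥(Cfsg.GU n F q),
      (psuDiag u : MulAut (Cfsg.PSU n F q)) ∈ Subgroup.centralizer {xg hF g} ∧
        (((guDet hF u : ↥(U1 F q)) : Fˣ) : F) = μ ^ n * j P₀.det := by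
  obtain ⟨hunit, κ, hκ0, hκ⟩ := twist (by omega) hjq D D rfl P₀ c₀ hP μ hμ
  refine ⟨guMk hF _ hunit, ?_, ?_⟩
  · rw [mem_centralizer_xg_iff hF hn]
    exact ⟨κ, hκ⟩
  · rw [guDet_coe, guMk_coe, Matrix.det_smul, Fintype.card_fin, det_conj_eq _ _ _ D.hBB']
    congr 1
    have := (RingHom.map_det j P₀).symm
    rw [RingHom.mapMatrix_apply] at this
    exact this

/-- a centralising unitary matrix comes from a similitude of the descended form -/
theorem exists_sim_of_cent (hn : 3 ≤ n) (hj : ∀ a : F, a ^ q = a ↔ ∃ b, j b = a)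
    (D : Desc hF j g) (u : ↥(Cfsg.GU n F q))
    (hu : (psuDiag u : MulAut (Cfsg.PSU n F q)) ∈ Subgroup.centralizer {xg hF g}) :
    ∃ (P₀ : Matrix (Fin n) (Fin n) F₀) (μ : F) (c₀ : F₀), c₀ ≠ 0 ∧ μ * μ ^ q * j c₀ = 1 ∧
      P₀ᵀ * D.M₀ * P₀ = c₀ • D.M₀ ∧
      (((guDet hF u : ↥(U1 F q)) : Fˣ) : F) = μ ^ n * j P₀.det := by
  have hjq : ∀ a : F₀, j a ^ q = j a := fun a => (hj (j a)).mpr ⟨a, rfl⟩
  have h1n : 1 ≤ n := by omega
  obtain ⟨c, hc⟩ := (mem_centralizer_xg_iff hF hn u g).mp hu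
  set U := ((u : GL (Fin n) F) : Matrix (Fin n) (Fin n) F) with hU
  set G := ((g : GL (Fin n) F) : Matrix (Fin n) (Fin n) F) with hG
  set Ui := ((((u : GL (Fin n) F)⁻¹ : GL (Fin n) F)) : Matrix (Fin n) (Fin n) F) with hUi
  have hUiU : Ui * U = 1 := by rw [hUi, hU, ← Units.val_mul, inv_mul_cancel, Units.val_one]
  have hc0 : c ≠ 0 := by
    rintro rfl
    rw [zero_smul] at hc
    have h1 : G = Ui * (U * G * Uᵀ) * Uiᵀ := by
      calc G = (Ui * U) * G * (Ui * U)ᵀ := by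
            rw [hUiU, Matrix.one_mul, Matrix.transpose_one, Matrix.mul_one]
        _ = _ := by rw [Matrix.transpose_mul]; simp only [Matrix.mul_assoc]
    rw [hc, Matrix.mul_zero, Matrix.zero_mul] at h1
    exact gu_coe_ne_zero h1n _ h1
  have hc' : G = c⁻¹ • (U * G * Uᵀ) := by
    rw [hc, smul_smul, inv_mul_cancel₀ hc0, one_smul]
  obtain ⟨P₀, b, c₀, hb0, hc₀0, hP₀, hPM⟩ := sim_of_conj h1n hj D D rfl u c⁻¹ hc'
  -- the multiplier is the norm of `b`
  have hHm0 : D.M₀.map j ≠ 0 := by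
    intro h0
    have h2 := D.mstar_B'
    have h3 : mstar (qAut hF) D.B * D.B = 0 := by
      have h4 := D.hM
      rw [h0] at h4
      rcases smul_eq_zero.mp h4 with h5 | h5
      · exact absurd h5 D.hθ
      · exact h5
    rw [h3, Matrix.mul_zero, Matrix.zero_mul] at h2
    have := congrFun (congrFun h2 ⟨0, by omega⟩) ⟨0, by omega⟩
    simp at this
  have hnorm : j c₀ = b * b ^ q := by
    have h5 := congrArg (fun M : Matrix (Fin n) (Fin n) F₀ => M.map j) hPM
    simp only [Matrix.map_mul] at h5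
    rw [map_smul_hom, ← mstar_map_fixed hF j hjq, hP₀, ← D.hM, mstar_smul, mstar_mul, mstar_mul]
      at h5
    have h8 : mstar (qAut hF) D.B * (mstar (qAut hF) U * mstar (qAut hF) D.B') *
        (mstar (qAut hF) D.B * D.B) * (D.B' * U * D.B) = mstar (qAut hF) D.B * D.B := by
      calc mstar (qAut hF) D.B * (mstar (qAut hF) U * mstar (qAut hF) D.B') *
            (mstar (qAut hF) D.B * D.B) * (D.B' * U * D.B)
          = mstar (qAut hF) D.B * (mstar (qAut hF) U *
              (mstar (qAut hF) D.B' * (mstar (qAut hF) D.B * D.B) * D.B') * U) * D.B := by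
            simp only [Matrix.mul_assoc]
        _ = _ := by rw [D.mstar_B', Matrix.mul_one, gu_mstar hF u, Matrix.mul_one]
    simp only [Matrix.mul_smul, Matrix.smul_mul, smul_smul] at h5
    rw [h8, qAut_apply] at h5
    by_contra hne
    have h9 : (b * (D.θ * b ^ q) - j c₀ * D.θ) • (mstar (qAut hF) D.B * D.B) = 0 := by
      rw [sub_smul, h5, sub_self]
    rcases smul_eq_zero.mp h9 with h10 | h10
    · apply hne
      have h11 : (b ^ q * b - j c₀) * D.θ = 0 := by rw [← h10]; ring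
      rcases mul_eq_zero.mp h11 with h12 | h12
      · linear_combination -h12
      · exact absurd h12 D.hθ
    · apply hHm0
      rw [← D.hM, h10, smul_zero]
  refine ⟨P₀, b⁻¹, c₀, hc₀0, ?_, hPM, ?_⟩
  · rw [hnorm, inv_pow]
    have hbq : b ^ q ≠ 0 := pow_ne_zero _ hb0
    field_simp
  · rw [guDet_coe]
    have h6 : U = b⁻¹ • (D.B * P₀.map j * D.B') := by
      rw [hP₀]
      calc U = (D.B * D.B') * U * (D.B * D.B') := by rw [D.hBB', Matrix.one_mul, Matrix.mul_one]
        _ = b⁻¹ • (D.B * b • (D.B' * U * D.B) * D.B') := by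
            simp only [Matrix.mul_smul, Matrix.smul_mul, smul_smul, Matrix.mul_assoc]
            rw [inv_mul_cancel₀ hb0, one_smul]
    show U.det = _
    conv_lhs => rw [h6]
    rw [Matrix.det_smul, Fintype.card_fin, det_conj_eq _ _ _ D.hBB']
    congr 1
    have := (RingHom.map_det j P₀).symm
    rw [RingHom.mapMatrix_apply] at this
    exact this

end Desc

end Cfsg.Agent.Lib.Helper45.PSUGraph
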