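import Mathlib
import Cfsg.Agent.Lib.Helper45.PSUGraph.Forms

/-!
# Antisymmetric invertible matrices (characteristic not two): all congruent, similarity group `GSp`
-/

set_option autoImplicit false
set_option linter.unusedSectionVars false

namespace Cfsg.Agent.Lib.Helper45.PSUGraph

open scoped MatrixGroups Matrix
open Matrix Cfsg.Agent.Lib.Helper43 Cfsg.Agent.Lib.Helper44 Cfsg.Agent.Lib.Helper44.GraphInv

variable {n m : ℕ} {K : Type*} [Field K]

/-- an antisymmetric invertible matrix is carried to the standard one by a linear equivalence -/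
theorem exists_map_altGL (hnm : n = 2 * m) (h2 : (2 : K) ≠ 0) (e : Fin m ⊕ Fin m ≃ Fin n)
    (M : Matrix (Fin n) (Fin n) K) (hM : Mᵀ = -M) (hMd : M.det ≠ 0) :
    ∃ L : (Fin n → K) ≃ₗ[K] (Fin n → K), ∀ u v,
      bf M (L u) (L v) = bf ((altGL e : GL (Fin n) K) : Matrix (Fin n) (Fin n) K) u v := by
  have hMi : M * M⁻¹ = 1 := Matrix.mul_nonsing_inv M (isUnit_iff_ne_zero.mpr hMd)
  have hA : (Matrix.toBilin' M).IsAlt := by
    intro v
    rw [← bf_eq_toBilin']
    have h1 := bf_transpose M v v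
    rw [hM] at h1
    have h3 : bf (-M) v v = -bf M v v := by
      have := bf_smul M (-1) v v
      rw [neg_one_smul, neg_one_mul] at this
      exact this
    rw [h3] at h1
    have h4 : (2 : K) * bf M v v = 0 := by linear_combination h1
    rcases mul_eq_zero.mp h4 with h5 | h5
    · exact absurd h5 h2
    · exact h5
  have hnd : ∀ u : Fin n → K, (∀ v, Matrix.toBilin' M u v = 0) → u = 0 := by
    intro u hu
    have h1 : u ᵥ* M = 0 := by
      funext j
      have h2 := hu (Pi.single j 1)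
      rw [Matrix.toBilin'_apply', Matrix.dotProduct_mulVec, dotProduct_single_one] at h2
      exact h2
    have h3 : (u ᵥ* M) ᵥ* M⁻¹ = u := by
      rw [Matrix.vecMul_vecMul, hMi, Matrix.vecMul_one]
    rw [h1, Matrix.zero_vecMul] at h3
    exact h3.symm
  have hfin : Module.finrank K (Fin n → K) = 2 * m := by
    rw [Module.finrank_fin_fun, hnm]
  obtain ⟨ι, hι⟩ := Cfsg.Agent.Lib.Helper13.exists_symp_coords (Matrix.toBilin' M) hA hnd m hfin
  refine ⟨(LinearEquiv.funCongrLeft K K e : (Fin n → K) ≃ₗ[K] (Fin m ⊕ Fin m → K)).trans ι, ?_⟩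
  intro u v
  rw [bf_altGL, bf_eq_toBilin']
  exact hι (u ∘ e) (v ∘ e)

theorem glOfEquiv_det_ne_zero (L : (Fin n → K) ≃ₗ[K] (Fin n → K)) :
    ((glOfEquiv L : GL (Fin n) K) : Matrix (Fin n) (Fin n) K).det ≠ 0 :=
  ((Matrix.isUnit_iff_isUnit_det _).mp (glOfEquiv L).isUnit).ne_zero

/-- any two antisymmetric invertible matrices are congruent -/
theorem exists_congr_skew (hnm : n = 2 * m) (h2 : (2 : K) ≠ 0)
    (M N : Matrix (Fin n) (Fin n) K) (hM : Mᵀ = -M) (hN : Nᵀ = -N) (hMd : M.det ≠ 0)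
    (hNd : N.det ≠ 0) : ∃ P : Matrix (Fin n) (Fin n) K, Pᵀ * N * P = M := by
  have e : Fin m ⊕ Fin m ≃ Fin n := finSumFinEquiv.trans (finCongr (by omega))
  obtain ⟨LM, hLM⟩ := exists_map_altGL hnm h2 e M hM hMd
  obtain ⟨LN, hLN⟩ := exists_map_altGL hnm h2 e N hN hNd
  have h1 := congr_of_map M _ LM 1 (fun u v => by rw [one_mul]; exact hLM u v)
  have h3 := congr_of_map N _ LN 1 (fun u v => by rw [one_mul]; exact hLN u v)
  rw [one_smul] at h1 h3
  set PM := ((glOfEquiv LM : GL (Fin n) K) : Matrix (Fin n) (Fin n) K) with hPM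
  set PN := ((glOfEquiv LN : GL (Fin n) K) : Matrix (Fin n) (Fin n) K) with hPN
  set PMi := (((glOfEquiv LM)⁻¹ : GL (Fin n) K) : Matrix (Fin n) (Fin n) K) with hPMi
  have h4 : PM * PMi = 1 := by rw [hPM, hPMi, ← Units.val_mul, mul_inv_cancel, Units.val_one]
  refine ⟨PN * PMi, ?_⟩
  calc (PN * PMi)ᵀ * N * (PN * PMi) = PMiᵀ * (PNᵀ * N * PN) * PMi := by
        rw [Matrix.transpose_mul]; simp only [Matrix.mul_assoc]
    _ = PMiᵀ * (PMᵀ * M * PM) * PMi := by rw [h3, h1]
    _ = (PM * PMi)ᵀ * M * (PM * PMi) := by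
        rw [Matrix.transpose_mul]; simp only [Matrix.mul_assoc]
    _ = M := by rw [h4, Matrix.transpose_one, Matrix.one_mul, Matrix.mul_one]

/-- the projective similarity group of an antisymmetric invertible matrix is `PGSp` -/
theorem projQuot_sim_skew_equiv (hnm : n = 2 * m) (h2 : (2 : K) ≠ 0)
    (M : Matrix (Fin n) (Fin n) K) (hM : Mᵀ = -M) (hMd : M.det ≠ 0) :
    Nonempty (Cfsg.projQuot (Cfsg.Geo.similarityGroup (bf M)) ≃* Cfsg.PGSp m K) := by
  have e : Fin m ⊕ Fin m ≃ Fin n := finSumFinEquiv.trans (finCongr (by omega))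
  obtain ⟨LM, hLM⟩ := exists_map_altGL hnm h2 e M hM hMd
  have h1 := congr_of_map M _ LM 1 (fun u v => by rw [one_mul]; exact hLM u v)
  have hAd : ((altGL e : GL (Fin n) K) : Matrix (Fin n) (Fin n) K).det ≠ 0 :=
    ((Matrix.isUnit_iff_isUnit_det _).mp (altGL (F := K) e).isUnit).ne_zero
  obtain ⟨e₁⟩ := projQuot_sim_of_congr _ M _ 1 one_ne_zero hAd h1
  obtain ⟨e₂⟩ := projQuot_sim_congr
    (bf ((altGL e : GL (Fin n) K) : Matrix (Fin n) (Fin n) K)) (Cfsg.sympForm m K)
    (reA e) (reB e) (reA_mul_reB e) (reB_mul_reA e) (by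
      intro u v
      rw [reA_mulVec, reA_mulVec, bf_altGL]
      congr 1 <;>
      · funext i
        simp)
  exact ⟨e₁.symm.trans e₂.symm⟩

end Cfsg.Agent.Lib.Helper45.PSUGraph
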