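import Mathlib
import Cfsg.Agent.Lib.Helper45.PSUGraph.CharTwo

/-!
# Centralisers of involutory graph automorphisms of `PSU_2m(q)`, `q` even

If `g = B S Bᵀ` with `g B^τ = B` and `S` a symmetric matrix over the fixed field `F₀`, the
centraliser of `xg g` in `Inndiag` is the isometry group of `S` over `F₀`.
-/

set_option autoImplicit false
set_option linter.unusedSectionVars false

namespace Cfsg.Agent.Lib.Helper45.PSUGraph

open scoped MatrixGroups Matrix
open Matrix Cfsg.Agent.Lib.Helper43 Cfsg.Agent.Lib.Helper45.PSLField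
  Cfsg.Agent.Lib.Helper45.SpInv Cfsg.Agent.Lib.Helper45.PSLGraph

variable {n m : ℕ} {F : Type*} [Field F] [Fintype F] {q : ℕ} {F₀ : Type*} [Field F₀]

section Lift

variable (e : Fin m ⊕ Fin m ≃ Fin n) (j : F₀ →+* F)

/-- lift a matrix over `F₀` indexed by `Fin m ⊕ Fin m` to one over `F` indexed by `Fin n` -/
def lift (A : Matrix (Fin m ⊕ Fin m) (Fin m ⊕ Fin m) F₀) : Matrix (Fin n) (Fin n) F :=
  (up e A).map j

theorem lift_mul (A A' : Matrix (Fin m ⊕ Fin m) (Fin m ⊕ Fin m) F₀) :
    lift e j (A * A') = lift e j A * lift e j A' := by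
  unfold lift
  rw [up_mul, Matrix.map_mul]

theorem lift_one : lift e j (1 : Matrix (Fin m ⊕ Fin m) (Fin m ⊕ Fin m) F₀) = 1 := by
  unfold lift
  rw [up_one]
  exact Matrix.map_one _ (map_zero _) (map_one _)

theorem lift_transpose (A : Matrix (Fin m ⊕ Fin m) (Fin m ⊕ Fin m) F₀) :
    lift e j Aᵀ = (lift e j A)ᵀ := by
  unfold lift
  rw [up_transpose, Matrix.transpose_map]

theorem lift_injective : Function.Injective (lift (F := F) e j) := by
  intro A A' h
  have h1 := map_injective' j h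
  rw [← down_up e A, ← down_up e A', h1]

theorem lift_apply (A : Matrix (Fin m ⊕ Fin m) (Fin m ⊕ Fin m) F₀) (i k : Fin n) :
    lift e j A i k = j (A (e.symm i) (e.symm k)) := rfl

end Lift

section Main

variable [CharP F 2] [Fintype F₀] (e : Fin m ⊕ Fin m ≃ Fin n)

/-- isometries of `S` over `F₀` give unitary matrices commuting with `xg g` -/
theorem unitary_of_isom (hF : Fintype.card F = q ^ 2) (j : F₀ →+* F)
    (hj : ∀ a : F, a ^ q = a ↔ ∃ b, j b = a) (g : ↥(Cfsg.GU n F q))
    (hg : ((g : GL (Fin n) F) : Matrix (Fin n) (Fin n) F)ᵀ =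
      ((g : GL (Fin n) F) : Matrix (Fin n) (Fin n) F))
    (S : Matrix (Fin m ⊕ Fin m) (Fin m ⊕ Fin m) F₀)
    (B B' : Matrix (Fin n) (Fin n) F) (hBB' : B * B' = 1)
    (hgB : ((g : GL (Fin n) F) : Matrix (Fin n) (Fin n) F) * B.map (qAut hF) = B)
    (hGeq : ((g : GL (Fin n) F) : Matrix (Fin n) (Fin n) F) = B * lift e j S * Bᵀ)
    (A Ai : Matrix (Fin m ⊕ Fin m) (Fin m ⊕ Fin m) F₀) (hAi : Ai * A = 1)
    (hA : A * S * Aᵀ = S) :
    mstar (qAut hF) (B * lift e j A * B') * (B * lift e j A * B') = 1 ∧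
      (B * lift e j A * B') * ((g : GL (Fin n) F) : Matrix (Fin n) (Fin n) F) *
        (B * lift e j A * B')ᵀ = ((g : GL (Fin n) F) : Matrix (Fin n) (Fin n) F) := by
  set G := ((g : GL (Fin n) F) : Matrix (Fin n) (Fin n) F) with hG
  set Gi := G.map (qAut hF) with hGi
  have hGGi : G * Gi = 1 := symm_mul_map hF g hg
  have hGiG : Gi * G = 1 := mul_eq_one_comm.mp hGGi
  have hGiT : Giᵀ = Gi := by rw [hGi, ← Matrix.transpose_map, hg]
  obtain ⟨hB1, hB2⟩ := map_of_h90 hF G Gi B B' hGiG hBB' hgB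
  have hB'B : B' * B = 1 := mul_eq_one_comm.mp hBB'
  have hconj : (B * lift e j A * B') * G * (B * lift e j A * B')ᵀ = G := by
    have h1 : lift e j A * lift e j S * (lift e j A)ᵀ = lift e j S := by
      rw [← lift_transpose, ← lift_mul, ← lift_mul, hA]
    calc (B * lift e j A * B') * G * (B * lift e j A * B')ᵀ
        = B * (lift e j A * ((B' * B) * lift e j S * (B' * B)ᵀ) * (lift e j A)ᵀ) * Bᵀ := by
          conv_lhs => rw [hGeq]
          simp only [Matrix.transpose_mul, Matrix.mul_assoc]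
      _ = B * lift e j S * Bᵀ := by
          rw [hB'B, Matrix.one_mul, Matrix.transpose_one, Matrix.mul_one, h1]
      _ = G := hGeq.symm
  refine ⟨?_, hconj⟩
  apply unitary_of_conj hF G G Gi (B * lift e j A * B') (B * lift e j Ai * B') hg hGiT ?_ hconj ?_
    hGGi
  · calc B * lift e j Ai * B' * (B * lift e j A * B')
        = B * (lift e j Ai * ((B' * B) * lift e j A)) * B' := by simp only [Matrix.mul_assoc]
      _ = 1 := by rw [hB'B, Matrix.one_mul, ← lift_mul, hAi, lift_one, Matrix.mul_one, hBB']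
  · rw [Matrix.map_mul, Matrix.map_mul, hB1, hB2]
    unfold lift
    rw [map_map_fixed hF j hj]
    simp only [Matrix.mul_assoc]

/-- The centraliser in `Inndiag` of `xg g`, for `g = B S Bᵀ` in standard form, is the
isometry group of `S`. -/
theorem nonempty_centralizer_equiv (hF : Fintype.card F = q ^ 2) (hn : 3 ≤ n) (j : F₀ →+* F)
    (hj : ∀ a : F, a ^ q = a ↔ ∃ b, j b = a) (g : ↥(Cfsg.GU n F q))
    (hg : ((g : GL (Fin n) F) : Matrix (Fin n) (Fin n) F)ᵀ =
      ((g : GL (Fin n) F) : Matrix (Fin n) (Fin n) F))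
    (S : Matrix (Fin m ⊕ Fin m) (Fin m ⊕ Fin m) F₀)
    (B B' : Matrix (Fin n) (Fin n) F) (hBB' : B * B' = 1)
    (hgB : ((g : GL (Fin n) F) : Matrix (Fin n) (Fin n) F) * B.map (qAut hF) = B)
    (hGeq : ((g : GL (Fin n) F) : Matrix (Fin n) (Fin n) F) = B * lift e j S * Bᵀ)
    (H : Subgroup (Matrix.symplecticGroup (Fin m) F₀))
    (hH : ∀ A : Matrix (Fin m ⊕ Fin m) (Fin m ⊕ Fin m) F₀, A * S * Aᵀ = S ↔
      ∃ h : A ∈ Matrix.symplecticGroup (Fin m) F₀,
        (⟨A, h⟩ : Matrix.symplecticGroup (Fin m) F₀) ∈ H) :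
    Nonempty (↥(Cfsg.inndiagPSU n F q ⊓ Subgroup.centralizer {xg hF g}) ≃* ↥H) := by
  set G := ((g : GL (Fin n) F) : Matrix (Fin n) (Fin n) F) with hG
  set Gi := G.map (qAut hF) with hGi
  have hGGi : G * Gi = 1 := symm_mul_map hF g hg
  have hGiG : Gi * G = 1 := mul_eq_one_comm.mp hGGi
  have hGiT : Giᵀ = Gi := by rw [hGi, ← Matrix.transpose_map, hg]
  obtain ⟨hB1, hB2⟩ := map_of_h90 hF G Gi B B' hGiG hBB' hgB
  have hB'B : B' * B = 1 := mul_eq_one_comm.mp hBB'
  have hG0 : G ≠ 0 := gu_coe_ne_zero (by omega) _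
  have hK0 : lift e j S ≠ 0 := by
    intro h0
    apply hG0
    rw [hGeq, h0, Matrix.mul_zero, Matrix.zero_mul]
  have hAi : ∀ A : ↥H, (A⁻¹).1.1 * A.1.1 = 1 := by
    intro A
    have : ((A⁻¹ * A : ↥H)).1.1 = 1 := by rw [inv_mul_cancel]; rfl
    exact this
  have hAH : ∀ A : ↥H, A.1.1 * S * A.1.1ᵀ = S := fun A => (hH A.1.1).mpr ⟨A.1.2, A.2⟩
  have hun : ∀ A : ↥H, mstar (qAut hF) (B * lift e j A.1.1 * B') * (B * lift e j A.1.1 * B') = 1 :=
    fun A => (unitary_of_isom e hF j hj g hg S B B' hBB' hgB hGeq A.1.1 (A⁻¹).1.1 (hAi A) (hAH A)).1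
  let ψ₀ : ↥H →* ↥(Cfsg.GU n F q) :=
    { toFun := fun A => guMk hF (B * lift e j A.1.1 * B') (hun A)
      map_one' := by
        apply gu_ext
        rw [guMk_coe]
        show B * lift e j 1 * B' = 1
        rw [lift_one, Matrix.mul_one, hBB']
      map_mul' := by
        intro A A'
        apply gu_ext
        rw [gu_coe_mul, guMk_coe, guMk_coe, guMk_coe]
        show B * lift e j (A.1.1 * A'.1.1) * B' = _
        rw [lift_mul]
        calc B * (lift e j A.1.1 * lift e j A'.1.1) * B'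
            = B * (lift e j A.1.1 * (1 * lift e j A'.1.1)) * B' := by rw [Matrix.one_mul]
          _ = _ := by rw [← hB'B]; simp only [Matrix.mul_assoc] }
  have hψ₀ : ∀ A : ↥H, (((ψ₀ A : ↥(Cfsg.GU n F q)) : GL (Fin n) F) : Matrix (Fin n) (Fin n) F) =
      B * lift e j A.1.1 * B' := fun A => rfl
  have hmem : ∀ A : ↥H, (psuDiag (ψ₀ A) : MulAut (Cfsg.PSU n F q)) ∈
      Cfsg.inndiagPSU n F q ⊓ Subgroup.centralizer {xg hF g} := by
    intro A
    refine Subgroup.mem_inf.mpr ⟨psuDiag_mem_inndiagPSU _, ?_⟩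
    rw [mem_centralizer_xg_iff hF hn]
    refine ⟨1, ?_⟩
    rw [one_smul, hψ₀]
    exact (unitary_of_isom e hF j hj g hg S B B' hBB' hgB hGeq A.1.1 (A⁻¹).1.1 (hAi A) (hAH A)).2
  let ψ : ↥H →* ↥(Cfsg.inndiagPSU n F q ⊓ Subgroup.centralizer {xg hF g}) :=
    MonoidHom.codRestrict (psuDiag.comp ψ₀) _ hmem
  have hψ : ∀ A : ↥H, ((ψ A : ↥(Cfsg.inndiagPSU n F q ⊓ Subgroup.centralizer {xg hF g})) :
      MulAut (Cfsg.PSU n F q)) = psuDiag (ψ₀ A) := fun A => rfl
  refine ⟨(MulEquiv.ofBijective ψ ⟨?_, ?_⟩).symm⟩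
  · -- injective
    intro A A' hAA'
    have h3 : (psuDiag (ψ₀ A) : MulAut (Cfsg.PSU n F q)) = psuDiag (ψ₀ A') := by
      rw [← hψ A, ← hψ A', hAA']
    obtain ⟨c, hc⟩ := (psuDiag_eq_iff hF hn _ _).mp h3
    rw [hψ₀, hψ₀] at hc
    have h4 : lift e j A.1.1 = c • lift e j A'.1.1 := by
      have := congrArg (fun M => B' * M * B) hc
      simp only [Matrix.mul_smul, Matrix.smul_mul] at this
      have e1 : ∀ M : Matrix (Fin n) (Fin n) F, B' * (B * M * B') * B = M := by
        intro M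
        calc B' * (B * M * B') * B = (B' * B) * M * (B' * B) := by simp only [Matrix.mul_assoc]
          _ = M := by rw [hB'B, Matrix.one_mul, Matrix.mul_one]
      rw [e1, e1] at this
      exact this
    have h5 : ∀ A : ↥H, lift e j A.1.1 * lift e j S * (lift e j A.1.1)ᵀ = lift e j S := by
      intro A
      rw [← lift_transpose, ← lift_mul, ← lift_mul, hAH A]
    have h6 := h5 A
    rw [h4, Matrix.transpose_smul, Matrix.smul_mul, Matrix.smul_mul, Matrix.mul_smul, h5 A',
      smul_smul] at h6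
    have h7 : c * c = 1 := by
      by_contra hne
      have h8 : (c * c - 1) • lift e j S = 0 := by rw [sub_smul, one_smul, h6, sub_self]
      rcases smul_eq_zero.mp h8 with h9 | h9
      · exact hne (sub_eq_zero.mp h9)
      · exact hK0 h9
    rw [eq_one_of_mul_self_eq_one h7, one_smul] at h4
    exact Subtype.ext (Subtype.ext (lift_injective e j h4))
  · -- surjective
    rintro ⟨β, hβ⟩
    obtain ⟨hβ1, hβ2⟩ := Subgroup.mem_inf.mp hβ
    rw [inndiagPSU_eq_range] at hβ1
    obtain ⟨u, rfl⟩ := hβ1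
    obtain ⟨c, hc⟩ := (mem_centralizer_xg_iff hF hn u g).mp hβ2
    set U := ((u : GL (Fin n) F) : Matrix (Fin n) (Fin n) F) with hU
    have hUinv : mstar (qAut hF) U * U = 1 := gu_mstar hF u
    have hc0 : c ≠ 0 := by
      rintro rfl
      rw [zero_smul] at hc
      have h1 : (U * G * Uᵀ).det = 0 := by
        have : Nonempty (Fin n) := ⟨⟨0, by omega⟩⟩
        rw [hc]
        simp
      rw [Matrix.det_mul, Matrix.det_mul, Matrix.det_transpose] at h1
      have hUd : U.det ≠ 0 := by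
        intro h0
        have := congrArg Matrix.det hUinv
        rw [Matrix.det_mul, h0, mul_zero, Matrix.det_one] at this
        exact zero_ne_one this
      have hGd : G.det ≠ 0 := by
        intro h0
        have := congrArg Matrix.det hGGi
        rw [Matrix.det_mul, h0, zero_mul, Matrix.det_one] at this
        exact zero_ne_one this
      rcases mul_eq_zero.mp h1 with h2 | h2
      · rcases mul_eq_zero.mp h2 with h3 | h3
        · exact hUd h3
        · exact hGd h3
      · exact hUd h2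
    obtain ⟨s, hs⟩ := FiniteField.isSquare_of_char_two
      (CharP.ringChar_of_prime_eq_zero Nat.prime_two (CharTwo.two_eq_zero (R := F))) c
    have hs0 : s ≠ 0 := by
      rintro rfl
      rw [mul_zero] at hs
      exact hc0 hs
    -- the matrix `A = s⁻¹ B' U B`
    set A := s⁻¹ • (B' * U * B) with hAdef
    have hAK : A * lift e j S * Aᵀ = lift e j S := by
      have h1 : B' * U * B * lift e j S * (B' * U * B)ᵀ = c • lift e j S := by
        calc B' * U * B * lift e j S * (B' * U * B)ᵀ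
            = B' * (U * (B * lift e j S * Bᵀ) * Uᵀ) * B'ᵀ := by
              simp only [Matrix.transpose_mul, Matrix.mul_assoc]
          _ = B' * (c • G) * B'ᵀ := by rw [← hGeq, hc]
          _ = c • ((B' * B) * lift e j S * (B' * B)ᵀ) := by
              rw [hGeq]
              simp only [Matrix.transpose_mul, Matrix.mul_assoc, Matrix.mul_smul, Matrix.smul_mul]
          _ = _ := by rw [hB'B, Matrix.one_mul, Matrix.transpose_one, Matrix.mul_one]
      rw [hAdef, Matrix.transpose_smul, Matrix.smul_mul, Matrix.smul_mul, Matrix.mul_smul, h1,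
        smul_smul, smul_smul, hs]
      have : s⁻¹ * s⁻¹ * (s * s) = 1 := by field_simp
      rw [this, one_smul]
    -- `A` is semi-fixed
    have hUmap : U.map (qAut hF) = c⁻¹ • (Gi * U * G) := by
      -- Uᵀ = (U^τ)⁻¹ ; U G Uᵀ = c G
      have h1 : (U.map (qAut hF))ᵀ * U = 1 := hUinv
      have h2 : Uᵀ * U.map (qAut hF) = 1 := by
        have := congrArg Matrix.transpose h1
        rw [Matrix.transpose_mul, Matrix.transpose_transpose, Matrix.transpose_one] at this
        exact this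
      -- U G = c G U^τ
      have h3 : U * G = c • (G * U.map (qAut hF)) := by
        calc U * G = U * G * (Uᵀ * U.map (qAut hF)) := by rw [h2, Matrix.mul_one]
          _ = (U * G * Uᵀ) * U.map (qAut hF) := by simp only [Matrix.mul_assoc]
          _ = _ := by rw [hc, Matrix.smul_mul]
      calc U.map (qAut hF) = c⁻¹ • (Gi * (c • (G * U.map (qAut hF)))) := by
            rw [Matrix.mul_smul, smul_smul, inv_mul_cancel₀ hc0, one_smul, ← Matrix.mul_assoc, hGiG,
              Matrix.one_mul]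
        _ = c⁻¹ • (Gi * (U * G)) := by rw [h3]
        _ = _ := by rw [Matrix.mul_assoc]
    have hAsemi : A.map (qAut hF) = ((qAut hF s)⁻¹ * s⁻¹) • A := by
      have h1 : (B' * U * B).map (qAut hF) = c⁻¹ • (B' * U * B) := by
        rw [Matrix.map_mul, Matrix.map_mul, hB1, hB2, hUmap]
        calc B' * G * c⁻¹ • (Gi * U * G) * (Gi * B)
            = c⁻¹ • (B' * ((G * Gi) * U * (G * Gi)) * B) := by
              simp only [Matrix.mul_smul, Matrix.smul_mul, Matrix.mul_assoc]
          _ = _ := by rw [hGGi, Matrix.one_mul, Matrix.mul_one]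
      have h2 : A.map (qAut hF) = (qAut hF s⁻¹) • (B' * U * B).map (qAut hF) := by
        rw [hAdef]
        ext i k
        simp only [Matrix.map_apply, Matrix.smul_apply, smul_eq_mul, map_mul]
      rw [h2, h1, hAdef, smul_smul, smul_smul, map_inv₀]
      congr 1
      rw [hs, mul_inv, mul_assoc]
    have hAfix : A.map (qAut hF) = A := by
      set lam := (qAut hF s)⁻¹ * s⁻¹ with hlam
      have hKfix : (lift e j S).map (qAut hF) = lift e j S := map_map_fixed hF j hj _
      have h1 := congrArg (fun M => M.map (qAut hF)) hAK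
      simp only [Matrix.map_mul] at h1
      rw [Matrix.transpose_map, hAsemi, hKfix, Matrix.transpose_smul, Matrix.smul_mul,
        Matrix.smul_mul, Matrix.mul_smul, hAK, smul_smul] at h1
      have h2 : lam * lam = 1 := by
        by_contra hne
        have h8 : (lam * lam - 1) • lift e j S = 0 := by rw [sub_smul, one_smul, h1, sub_self]
        rcases smul_eq_zero.mp h8 with h9 | h9
        · exact hne (sub_eq_zero.mp h9)
        · exact hK0 h9
      rw [hAsemi, eq_one_of_mul_self_eq_one h2, one_smul]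
    obtain ⟨A₁, hA₁⟩ := exists_map_of_fixed hF j hj A hAfix
    set A₀ := down e A₁ with hA₀
    have hA₀lift : lift e j A₀ = A := by
      unfold lift
      rw [hA₀, up_down, hA₁]
    have hA₀S : A₀ * S * A₀ᵀ = S := by
      apply lift_injective e j
      rw [lift_mul, lift_mul, lift_transpose, hA₀lift, hAK]
    obtain ⟨hAsp, hAH'⟩ := (hH A₀).mp hA₀S
    refine ⟨⟨⟨A₀, hAsp⟩, hAH'⟩, ?_⟩
    apply Subtype.ext
    rw [hψ]
    show (psuDiag (ψ₀ ⟨⟨A₀, hAsp⟩, hAH'⟩) : MulAut (Cfsg.PSU n F q)) = psuDiag u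
    apply psuDiag_eq_of_smul _ _ s⁻¹
    rw [hψ₀]
    show B * lift e j A₀ * B' = s⁻¹ • U
    rw [hA₀lift, hAdef]
    calc B * s⁻¹ • (B' * U * B) * B' = s⁻¹ • ((B * B') * U * (B * B')) := by
          simp only [Matrix.mul_smul, Matrix.smul_mul, Matrix.mul_assoc]
      _ = _ := by rw [hBB', Matrix.one_mul, Matrix.mul_one]

end Main

end Cfsg.Agent.Lib.Helper45.PSUGraph
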