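import Mathlib
import Cfsg.Agent.Lib.Helper45.PSUGraph.Split
import Cfsg.Agent.Lib.Helper45.PSUGraph.Skew
import Cfsg.Agent.Lib.Helper44.GraphInv10

/-!
# The determinant groups of the involutory graph automorphisms of `PSU_n(q)`
-/

set_option autoImplicit false
set_option linter.unusedSectionVars false

namespace Cfsg.Agent.Lib.Helper45.PSUGraph

open scoped MatrixGroups Matrix
open Matrix Cfsg.Agent.Lib.Helper43 Cfsg.Agent.Lib.Helper5 Cfsg.Agent.Lib.Helper45.PSLField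
  Cfsg.Agent.Lib.Helper44 Cfsg.Agent.Lib.Helper44.GraphInv Cfsg.Agent.Lib.Helper13

variable {n m : ℕ} {F : Type*} [Field F] [Fintype F] {q : ℕ} {F₀ : Type*} [Field F₀]

section Index

theorem index_range_pow_U1 (hF : Fintype.card F = q ^ 2) (k : ℕ) :
    (powMonoidHom k : ↥(U1 F q) →* ↥(U1 F q)).range.index = Nat.gcd k (q + 1) := by
  classical
  rw [IsCyclic.index_powMonoidHom_range, card_U1 hF, Nat.gcd_comm]

theorem index_comap_sq_U1 (hF : Fintype.card F = q ^ 2) (hodd : Odd q) (he : Even n) :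
    ((powMonoidHom n : ↥(U1 F q) →* ↥(U1 F q)).range.comap
      (powMonoidHom 2 : ↥(U1 F q) →* ↥(U1 F q))).index = Nat.gcd n (q + 1) / 2 := by
  classical
  rw [Subgroup.index_comap]
  have hle : (powMonoidHom n : ↥(U1 F q) →* ↥(U1 F q)).range ≤
      (powMonoidHom 2 : ↥(U1 F q) →* ↥(U1 F q)).range := by
    rintro _ ⟨s, rfl⟩
    obtain ⟨t, ht⟩ := he
    refine ⟨s ^ t, ?_⟩
    rw [powMonoidHom_apply, powMonoidHom_apply, ← pow_mul, ht]
    congr 1
    ring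
  have h1 := Subgroup.relIndex_mul_index hle
  rw [index_range_pow_U1 hF, index_range_pow_U1 hF] at h1
  have h3 : Nat.gcd 2 (q + 1) = 2 := by
    apply Nat.gcd_eq_left
    obtain ⟨k, hk⟩ := hodd
    exact ⟨k + 1, by omega⟩
  rw [h3] at h1
  rw [← h1, Nat.mul_div_cancel _ (by norm_num : 0 < 2)]

end Index

section Mk

/-- a norm-one element of `F` as an element of `U₁` -/
noncomputable def u1Mk (z : F) (hz : z ^ (q + 1) = 1) : ↥(U1 F q) :=
  ⟨Units.mk0 z (by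
    rintro rfl
    rw [zero_pow (by omega)] at hz
    exact zero_ne_one hz), by
    rw [mem_U1_iff, Units.val_mk0]
    exact hz⟩

theorem u1Mk_coe (z : F) (hz : z ^ (q + 1) = 1) : (((u1Mk z hz : ↥(U1 F q)) : Fˣ) : F) = z := rfl

theorem u1_ext {a b : ↥(U1 F q)} (h : ((a : Fˣ) : F) = ((b : Fˣ) : F)) : a = b :=
  Subtype.ext (Units.ext h)

theorem u1_coe_pow (a : ↥(U1 F q)) (k : ℕ) :
    (((a ^ k : ↥(U1 F q)) : Fˣ) : F) = ((a : Fˣ) : F) ^ k := by
  rw [Subgroup.coe_pow, Units.val_pow_eq_pow_val]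

theorem u1_coe_mul (a b : ↥(U1 F q)) :
    (((a * b : ↥(U1 F q)) : Fˣ) : F) = ((a : Fˣ) : F) * ((b : Fˣ) : F) := rfl

theorem u1_norm (a : ↥(U1 F q)) : ((a : Fˣ) : F) * ((a : Fˣ) : F) ^ q = 1 := by
  have := (mem_U1_iff (a : Fˣ)).mp a.2
  rw [pow_succ'] at this
  exact this

/-- Hilbert 90 in `U₁` -/
theorem exists_h90_U1 (hF : Fintype.card F = q ^ 2) (z : ↥(U1 F q)) :
    ∃ μ : F, μ ≠ 0 ∧ ((z : Fˣ) : F) * μ ^ q = μ := by
  have h1 : nrm (qAut hF) ((z : Fˣ) : F) 2 = 1 := by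
    unfold nrm
    rw [Finset.prod_range_succ, Finset.prod_range_one, pow_zero, pow_one]
    show ((z : Fˣ) : F) * (qAut hF) ((z : Fˣ) : F) = 1
    rw [qAut_apply]
    exact u1_norm z
  obtain ⟨b, hb0, hb⟩ := hilbert90_scalar (qAut hF) (by norm_num) (orderOf_qAut hF) _ h1
  exact ⟨b, hb0, by rw [← qAut_apply hF]; exact hb⟩

end Mk

section Desc

variable {hF : Fintype.card F = q ^ 2} {j : F₀ →+* F} {g : ↥(Cfsg.GU n F q)}

/-- if every similitude multiplier has a square root `r` with `det = r ^ n`, the determinant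
group is the group of `n`-th powers -/
theorem detCentU_eq_range_of_root (hn : 3 ≤ n) (hj : ∀ a : F, a ^ q = a ↔ ∃ b, j b = a)
    (D : Desc hF j g)
    (hroot : ∀ (P₀ : Matrix (Fin n) (Fin n) F₀) (c₀ : F₀), c₀ ≠ 0 →
      P₀ᵀ * D.M₀ * P₀ = c₀ • D.M₀ → ∃ r : F₀, c₀ = r * r ∧ P₀.det = r ^ n) :
    detCentU hF (xg hF g) = (powMonoidHom n : ↥(U1 F q) →* ↥(U1 F q)).range := by
  have hjq : ∀ a : F₀, j a ^ q = j a := fun a => (hj (j a)).mpr ⟨a, rfl⟩
  apply le_antisymm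
  · intro w hw
    obtain ⟨u, z, hu, rfl⟩ := (mem_detCentU_iff hF _ w).mp hw
    obtain ⟨P₀, μ, c₀, hc₀, hμ, hP, hdet⟩ := exists_sim_of_cent hn hj D u hu
    obtain ⟨r, hr, hrdet⟩ := hroot P₀ c₀ hc₀ hP
    have hz' : (μ * j r) ^ (q + 1) = 1 := by
      rw [pow_succ', mul_pow, hjq]
      calc μ * j r * (μ ^ q * j r) = μ * μ ^ q * (j r * j r) := by ring
        _ = 1 := by rw [← map_mul, ← hr, hμ]
    refine ⟨u1Mk (μ * j r) hz' * z, ?_⟩
    rw [powMonoidHom_apply, mul_pow]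
    congr 1
    apply u1_ext
    rw [u1_coe_pow, u1Mk_coe, hdet, hrdet, mul_pow, map_pow]
  · unfold detCentU
    exact le_sup_right

theorem det_sq_of_sim' (M P : Matrix (Fin n) (Fin n) F₀) (c₀ : F₀) (hMd : M.det ≠ 0)
    (hP : Pᵀ * M * P = c₀ • M) : P.det * P.det = c₀ ^ n := by
  have h1 := congrArg Matrix.det hP
  rw [Matrix.det_mul, Matrix.det_mul, Matrix.det_transpose, Matrix.det_smul,
    Fintype.card_fin] at h1
  apply mul_right_cancel₀ hMd
  linear_combination h1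

/-- odd dimension: the root condition -/
theorem root_of_odd (hn : Odd n) (M : Matrix (Fin n) (Fin n) F₀) (hMd : M.det ≠ 0)
    (P₀ : Matrix (Fin n) (Fin n) F₀) (c₀ : F₀) (hc₀ : c₀ ≠ 0)
    (hP : P₀ᵀ * M * P₀ = c₀ • M) : ∃ r : F₀, c₀ = r * r ∧ P₀.det = r ^ n := by
  obtain ⟨t, ht⟩ := hn
  subst ht
  have h1 := det_sq_of_sim' M P₀ c₀ hMd hP
  have hct : c₀ ^ t ≠ 0 := pow_ne_zero _ hc₀
  have hn' : c₀ ^ (2 * t + 1) = c₀ ^ t * c₀ ^ t * c₀ := by ring
  rw [hn'] at h1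
  have hrr : P₀.det / c₀ ^ t * (P₀.det / c₀ ^ t) = c₀ := by
    rw [div_mul_div_comm, h1]
    field_simp
  refine ⟨P₀.det / c₀ ^ t, hrr.symm, ?_⟩
  have h2 : (P₀.det / c₀ ^ t) ^ (2 * t + 1) = (P₀.det / c₀ ^ t * (P₀.det / c₀ ^ t)) ^ t *
      (P₀.det / c₀ ^ t) := by
    rw [pow_succ, pow_mul, sq]
  rw [h2, hrr]
  field_simp

/-- characteristic two: the root condition -/
theorem root_of_char_two [Finite F₀] [CharP F₀ 2] (M : Matrix (Fin n) (Fin n) F₀)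
    (hMd : M.det ≠ 0) (P₀ : Matrix (Fin n) (Fin n) F₀) (c₀ : F₀) (hc₀ : c₀ ≠ 0)
    (hP : P₀ᵀ * M * P₀ = c₀ • M) : ∃ r : F₀, c₀ = r * r ∧ P₀.det = r ^ n := by
  have h1 := det_sq_of_sim' M P₀ c₀ hMd hP
  have hsurj : Function.Surjective (frobenius F₀ 2) :=
    Finite.injective_iff_surjective.mp (frobenius_inj F₀ 2)
  obtain ⟨r, hr⟩ := hsurj c₀
  rw [frobenius_def, sq] at hr
  refine ⟨r, hr.symm, ?_⟩
  apply frobenius_inj F₀ 2
  rw [frobenius_def, frobenius_def, sq, h1, ← hr, ← pow_two, ← pow_mul, ← pow_mul, mul_comm]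

/-- antisymmetric type: the determinant group is the group of `m`-th powers -/
theorem detCentU_skew (hn : 3 ≤ n) (hnm : n = 2 * m) (hj : ∀ a : F, a ^ q = a ↔ ∃ b, j b = a)
    (e : Fin m ⊕ Fin m ≃ Fin n) (D : Desc hF j g)
    (hDM : D.M₀ = ((altGL e : GL (Fin n) F₀) : Matrix (Fin n) (Fin n) F₀)) :
    detCentU hF (xg hF g) = (powMonoidHom m : ↥(U1 F q) →* ↥(U1 F q)).range := by
  have hjq : ∀ a : F₀, j a ^ q = j a := fun a => (hj (j a)).mpr ⟨a, rfl⟩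
  have hsm : ∀ (a : F₀) (M : Matrix (Fin n) (Fin n) F₀),
      (a • M).submatrix e e = a • M.submatrix e e := fun _ _ => rfl
  have h2e : (e.symm ∘ e) = id := by
    funext i
    simp
  apply le_antisymm
  · intro w hw
    obtain ⟨u, z, hu, rfl⟩ := (mem_detCentU_iff hF _ w).mp hw
    obtain ⟨P₀, μ, c₀, hc₀, hμ, hP, hdet⟩ := exists_sim_of_cent hn hj D u hu
    -- det P₀ = c₀ ^ m
    have hdetP : P₀.det = c₀ ^ m := by
      rw [hDM, altGL_coe] at hP
      have h1 := congrArg (fun M : Matrix (Fin n) (Fin n) F₀ => M.submatrix e e) hP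
      beta_reduce at h1
      rw [← Matrix.submatrix_mul_equiv _ _ e e e, ← Matrix.submatrix_mul_equiv _ _ e e e,
        hsm, Matrix.submatrix_submatrix, h2e, Matrix.submatrix_id_id] at h1
      have h3 := det_of_sim_J ((P₀ᵀ).submatrix e e) c₀ hc₀ (by
        rw [← Matrix.transpose_submatrix, Matrix.transpose_transpose]
        exact h1)
      rw [Matrix.det_submatrix_equiv_self, Matrix.det_transpose] at h3
      exact h3
    have hz' : (μ * μ * j c₀) ^ (q + 1) = 1 := by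
      rw [pow_succ', mul_pow, mul_pow, hjq]
      calc μ * μ * j c₀ * (μ ^ q * μ ^ q * j c₀) = (μ * μ ^ q * j c₀) * (μ * μ ^ q * j c₀) := by
            ring
        _ = 1 := by rw [hμ, one_mul]
    refine ⟨u1Mk (μ * μ * j c₀) hz' * z ^ 2, ?_⟩
    rw [powMonoidHom_apply, mul_pow, ← pow_mul, ← hnm]
    congr 1
    apply u1_ext
    rw [u1_coe_pow, u1Mk_coe, hdet, hdetP, hnm, map_pow, mul_pow, pow_mul, sq]
  · rintro _ ⟨z, rfl⟩
    rw [powMonoidHom_apply, mem_detCentU_iff]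
    obtain ⟨μ, hμ0, hμ⟩ := exists_h90_U1 hF z
    have hμq : μ ^ q ≠ 0 := pow_ne_zero _ hμ0
    have hfix : ((μ * μ ^ q)⁻¹) ^ q = (μ * μ ^ q)⁻¹ := by
      rw [inv_pow, norm_pow_q hF]
    obtain ⟨c₀, hc₀⟩ := (hj _).mp hfix
    have hc₀0 : c₀ ≠ 0 := by
      rintro rfl
      rw [map_zero] at hc₀
      exact inv_ne_zero (mul_ne_zero hμ0 hμq) hc₀.symm
    set P₀ : Matrix (Fin n) (Fin n) F₀ := ((dmat m c₀)ᵀ).submatrix e.symm e.symm with hP₀
    have hP : P₀ᵀ * D.M₀ * P₀ = c₀ • D.M₀ := by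
      rw [hDM, altGL_coe, hP₀, Matrix.transpose_submatrix, Matrix.transpose_transpose,
        Matrix.submatrix_mul_equiv, Matrix.submatrix_mul_equiv, dmat_mul_J]
      rfl
    have hdetP : P₀.det = c₀ ^ m := by
      rw [hP₀, Matrix.det_submatrix_equiv_self, Matrix.det_transpose, det_dmat]
    have hμ1 : μ * μ ^ q * j c₀ = 1 := by
      rw [hc₀, mul_inv_cancel₀ (mul_ne_zero hμ0 hμq)]
    obtain ⟨u, hu, hdet⟩ := exists_cent_of_sim hn hjq D P₀ c₀ hP μ hμ1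
    refine ⟨u, 1, hu, ?_⟩
    rw [one_pow, mul_one]
    apply u1_ext
    rw [u1_coe_pow, hdet, hdetP, hnm, map_pow, pow_mul, ← mul_pow, hc₀]
    congr 1
    have : μ ^ 2 * (μ * μ ^ q)⁻¹ = μ / μ ^ q := by
      field_simp
    rw [this, eq_div_iff hμq]
    exact hμ

variable [Fintype F₀]

/-- symmetric type, `n` even, `q` odd: the determinant group consists of the square roots of the
`n`-th powers -/
theorem detCentU_symm (hn : 3 ≤ n) (he : Even n) (hj : ∀ a : F, a ^ q = a ↔ ∃ b, j b = a)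
    (h2 : (2 : F₀) ≠ 0) (D : Desc hF j g) (hDT : D.M₀ᵀ = D.M₀) (hDd : D.M₀.det ≠ 0) :
    detCentU hF (xg hF g) = (powMonoidHom n : ↥(U1 F q) →* ↥(U1 F q)).range.comap
      (powMonoidHom 2 : ↥(U1 F q) →* ↥(U1 F q)) := by
  classical
  have hjq : ∀ a : F₀, j a ^ q = j a := fun a => (hj (j a)).mpr ⟨a, rfl⟩
  -- the square of a centralising determinant
  have hsq : ∀ (P₀ : Matrix (Fin n) (Fin n) F₀) (μ : F) (c₀ : F₀),
      P₀ᵀ * D.M₀ * P₀ = c₀ • D.M₀ → (μ ^ n * j P₀.det) ^ 2 = (μ * μ * j c₀) ^ n := by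
    intro P₀ μ c₀ hP
    have h1 := det_sq_of_sim' D.M₀ P₀ c₀ hDd hP
    have h1' : j P₀.det * j P₀.det = j c₀ ^ n := by rw [← map_mul, h1, map_pow]
    calc (μ ^ n * j P₀.det) ^ 2 = (μ ^ n) ^ 2 * (j P₀.det * j P₀.det) := by ring
      _ = (μ * μ * j c₀) ^ n := by rw [h1']; ring
  have hz' : ∀ (μ : F) (c₀ : F₀), μ * μ ^ q * j c₀ = 1 → (μ * μ * j c₀) ^ (q + 1) = 1 := by
    intro μ c₀ hμ
    rw [pow_succ', mul_pow, mul_pow, hjq]
    calc μ * μ * j c₀ * (μ ^ q * μ ^ q * j c₀) = (μ * μ ^ q * j c₀) * (μ * μ ^ q * j c₀) := by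
          ring
      _ = 1 := by rw [hμ, one_mul]
  ext w
  rw [Subgroup.mem_comap, powMonoidHom_apply]
  constructor
  · intro hw
    obtain ⟨u, z, hu, rfl⟩ := (mem_detCentU_iff hF _ w).mp hw
    obtain ⟨P₀, μ, c₀, hc₀, hμ, hP, hdet⟩ := exists_sim_of_cent hn hj D u hu
    refine ⟨u1Mk (μ * μ * j c₀) (hz' μ c₀ hμ) * z ^ 2, ?_⟩
    rw [powMonoidHom_apply, mul_pow, mul_pow, ← pow_mul, ← pow_mul, mul_comm 2 n]
    congr 1
    apply u1_ext
    rw [u1_coe_pow, u1_coe_pow, u1Mk_coe, hdet]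
    exact (hsq P₀ μ c₀ hP).symm
  · rintro ⟨s, hs⟩
    rw [powMonoidHom_apply] at hs
    rw [mem_detCentU_iff]
    -- a similitude with the right multiplier
    obtain ⟨μ, hμ0, hμ⟩ := exists_h90_U1 hF s
    have hμq : μ ^ q ≠ 0 := pow_ne_zero _ hμ0
    have hfix : ((μ * μ ^ q)⁻¹) ^ q = (μ * μ ^ q)⁻¹ := by
      rw [inv_pow, norm_pow_q hF]
    obtain ⟨c₀, hc₀⟩ := (hj _).mp hfix
    have hc₀0 : c₀ ≠ 0 := by
      rintro rfl
      rw [map_zero] at hc₀
      exact inv_ne_zero (mul_ne_zero hμ0 hμq) hc₀.symm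
    have hμ1 : μ * μ ^ q * j c₀ = 1 := by
      rw [hc₀, mul_inv_cancel₀ (mul_ne_zero hμ0 hμq)]
    set gD : GL (Fin n) F₀ := Matrix.GeneralLinearGroup.mkOfDetNeZero D.M₀ hDd with hgD
    have hgDc : (gD : Matrix (Fin n) (Fin n) F₀) = D.M₀ := rfl
    obtain ⟨h₁, hh₁⟩ := exists_sim_mult h2 he gD hDT (Units.mk0 c₀ hc₀0)
    have hP₁ : (h₁ : Matrix (Fin n) (Fin n) F₀)ᵀ * D.M₀ * (h₁ : Matrix (Fin n) (Fin n) F₀) =
        c₀ • D.M₀ := by
      apply bf_ext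
      intro u v
      rw [← bf_mulVec, bf_smul]
      exact hh₁ u v
    obtain ⟨u₁, hu₁, hdet₁⟩ := exists_cent_of_sim hn hjq D _ c₀ hP₁ μ hμ1
    -- the reflection
    set Q := symQ D.M₀ with hQdef
    have hQ : (QuadraticMap.polarBilin Q).Nondegenerate := symQ_nondeg h2 gD hDT
    obtain ⟨v, hv⟩ : ∃ v, Q v ≠ 0 := by
      by_contra hcon
      push Not at hcon
      have hne : (Pi.single (⟨0, by omega⟩ : Fin n) (1 : F₀) : Fin n → F₀) ≠ 0 := by
        intro h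
        have := congrFun h (⟨0, by omega⟩ : Fin n)
        simp at this
      apply hne
      apply hQ.1
      intro w
      show QuadraticMap.polar ⇑Q _ w = 0
      unfold QuadraticMap.polar
      rw [hcon, hcon, hcon]
      ring
    have hP₂ : (Cfsg.reflectionMatrix (⇑Q) v)ᵀ * D.M₀ * Cfsg.reflectionMatrix (⇑Q) v =
        (1 : F₀) • D.M₀ := by
      apply bf_ext
      intro u w
      rw [← bf_mulVec, bf_smul, one_mul, ← polar_symQ h2 _ hDT, ← polar_symQ h2 _ hDT]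
      exact polar_mulVec_of_isometry Q _ (fun x => reflectionMatrix_isometry Q v hv x) u w
    obtain ⟨u₂, hu₂, hdet₂⟩ := exists_cent_of_sim hn hjq D _ 1 hP₂ 1 (by simp)
    rw [reflectionMatrix_det Q v hv, one_pow, one_mul, map_neg, map_one] at hdet₂
    -- compare squares
    have hsq₁ : (((guDet hF u₁ : ↥(U1 F q)) : Fˣ) : F) ^ 2 = (((w : ↥(U1 F q)) : Fˣ) : F) ^ 2 := by
      rw [hdet₁, hsq _ μ c₀ hP₁, ← u1_coe_pow w, ← hs, u1_coe_pow]
      congr 1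
      have : μ * μ * j c₀ = μ / μ ^ q := by
        rw [hc₀]
        field_simp
      rw [this, div_eq_iff hμq]
      exact hμ.symm
    rcases sq_eq_sq_iff_eq_or_eq_neg.mp hsq₁ with h5 | h5
    · refine ⟨u₁, 1, hu₁, ?_⟩
      rw [one_pow, mul_one]
      exact u1_ext h5.symm
    · refine ⟨u₂ * u₁, 1, ?_, ?_⟩
      · rw [map_mul]
        exact Subgroup.mul_mem _ hu₂ hu₁
      · rw [one_pow, mul_one, map_mul]
        apply u1_ext
        rw [u1_coe_mul, hdet₂, h5]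
        ring

end Desc

end Cfsg.Agent.Lib.Helper45.PSUGraph
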